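import Mathlib

/-!
# Degree arithmetic for the blocks at an involution
-/

set_option autoImplicit false

namespace CfsgLib.FourCore42

theorem exists_succ_four_mul {d : ℕ} {e : ℤ} (he : e = 1 ∨ e = -1) (h4 : (4 : ℤ) ∣ (d : ℤ) - e) :
    (e = 1 ∧ d % 4 = 1) ∨ (e = -1 ∧ d % 4 = 3) := by
  rcases he with rfl | rfl <;> omega

theorem five_le {d : ℕ} {e : ℤ} (he : e = 1) (h4 : (4 : ℤ) ∣ (d : ℤ) - e) (h1 : d ≠ 1) : 5 ≤ d := by
  subst he; omega

/-- Two positive and one negative. -/
theorem principal_ppn {a b c : ℕ} (ha : a % 4 = 1) (ha1 : a ≠ 1) (hb : b % 4 = 1) (hb1 : b ≠ 1)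
    (h : (c : ℤ) = a + b + 1) :
    let K : ℚ := 1 + 1 / a + 1 / b - 1 / c
    5 / 7 < K ∧ K ≤ 7 / 5 ∧ K ≠ 8 / 7 ∧ K ≠ 8 / 11 := by
  intro K
  have ha5 : (5 : ℚ) ≤ a := by exact_mod_cast (show 5 ≤ a by omega)
  have hb5 : (5 : ℚ) ≤ b := by exact_mod_cast (show 5 ≤ b by omega)
  have hc : (c : ℚ) = a + b + 1 := by exact_mod_cast h
  have hK : K = 1 + 1 / (a : ℚ) + 1 / b - 1 / c := rfl
  have hca : 1 / (c : ℚ) < 1 / a := one_div_lt_one_div_of_lt (by linarith) (by linarith)
  have hcb : 1 / (c : ℚ) < 1 / b := one_div_lt_one_div_of_lt (by linarith) (by linarith)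
  have hb0 : (0 : ℚ) < 1 / b := by positivity
  have hc0 : (0 : ℚ) < 1 / c := by rw [hc]; positivity
  have hb5' : 1 / (b : ℚ) ≤ 1 / 5 := one_div_le_one_div_of_le (by norm_num) hb5
  have ha5' : 1 / (a : ℚ) ≤ 1 / 5 := one_div_le_one_div_of_le (by norm_num) ha5
  refine ⟨by linarith, by linarith, fun e => ?_, fun e => by linarith⟩
  have ea : a = 5 ∨ a = 9 ∨ a = 13 ∨ 17 ≤ a := by omega
  have eb : b = 5 ∨ b = 9 ∨ b = 13 ∨ 17 ≤ b := by omega
  have hsmall : ∀ n : ℕ, 17 ≤ n → 1 / (n : ℚ) ≤ 1 / 17 := fun n hn =>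
    one_div_le_one_div_of_le (by norm_num) (by exact_mod_cast hn)
  have key : (a = 9 ∨ a = 13) → False := fun h' => by
    rw [hK, hc] at e
    rcases h' with rfl | rfl
    · have : (b : ℚ) * (b + 10) = 315 := by push_cast at e; field_simp at e; nlinarith
      have h2 : b * (b + 10) = 315 := by exact_mod_cast this
      have : b ≤ 14 := by nlinarith
      interval_cases b <;> omega
    · have : 6 * ((b : ℚ) * (b + 14)) = 1274 := by push_cast at e; field_simp at e; nlinarith
      have h2 : 6 * (b * (b + 14)) = 1274 := by exact_mod_cast this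
      omega
  have key' : (b = 9 ∨ b = 13) → False := fun h' => by
    rw [hK, hc] at e
    rcases h' with rfl | rfl
    · have : (a : ℚ) * (a + 10) = 315 := by push_cast at e; field_simp at e; nlinarith
      have h2 : a * (a + 10) = 315 := by exact_mod_cast this
      have : a ≤ 14 := by nlinarith
      interval_cases a <;> omega
    · have : 6 * ((a : ℚ) * (a + 14)) = 1274 := by push_cast at e; field_simp at e; nlinarith
      have h2 : 6 * (a * (a + 14)) = 1274 := by exact_mod_cast this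
      omega
  rcases ea with e1 | e1 | e1 | e1
  · subst e1
    push_cast at hK
    linarith
  · exact key (Or.inl e1)
  · exact key (Or.inr e1)
  rcases eb with e2 | e2 | e2 | e2
  · subst e2
    push_cast at hK
    linarith
  · exact key' (Or.inl e2)
  · exact key' (Or.inr e2)
  · linarith [hsmall a e1, hsmall b e2]

/-- One positive and two negatives. -/
theorem principal_pnn {a b c : ℕ} (ha : a % 4 = 1) (ha1 : a ≠ 1) (hb : b % 4 = 3) (hb3 : b ≠ 3)
    (hc' : c % 4 = 3) (hc3 : c ≠ 3) (h : (b : ℤ) + c = a + 1) :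
    let K : ℚ := 1 + 1 / a - 1 / b - 1 / c
    5 / 7 < K ∧ K ≤ 7 / 5 ∧ K ≠ 8 / 7 ∧ K ≠ 8 / 11 := by
  intro K
  have hb7 : (7 : ℚ) ≤ b := by exact_mod_cast (show 7 ≤ b by omega)
  have hc7 : (7 : ℚ) ≤ c := by exact_mod_cast (show 7 ≤ c by omega)
  have haq : (a : ℚ) = b + c - 1 := by
    have : ((b : ℚ) + c) = a + 1 := by exact_mod_cast h
    linarith
  have hK : K = 1 + 1 / (a : ℚ) - 1 / b - 1 / c := rfl
  have ha0 : (0 : ℚ) < 1 / a := by
    have : (0 : ℚ) < a := by linarith
    positivity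
  have hab : 1 / (a : ℚ) < 1 / b := one_div_lt_one_div_of_lt (by linarith) (by linarith)
  have hb0 : (0 : ℚ) < 1 / b := by positivity
  have hc0 : (0 : ℚ) < 1 / c := by positivity
  have hb' : 1 / (b : ℚ) ≤ 1 / 7 := one_div_le_one_div_of_le (by norm_num) hb7
  have hc'' : 1 / (c : ℚ) ≤ 1 / 7 := one_div_le_one_div_of_le (by norm_num) hc7
  refine ⟨by linarith, by linarith, fun e => by linarith, fun e => ?_⟩
  have hsmall : ∀ n : ℕ, 11 ≤ n → 1 / (n : ℚ) ≤ 1 / 11 := fun n hn =>
    one_div_le_one_div_of_le (by norm_num) (by exact_mod_cast hn)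
  rw [hK] at e
  rcases (show b = 7 ∨ 11 ≤ b by omega) with e1 | e1 <;>
    rcases (show c = 7 ∨ 11 ≤ c by omega) with e2 | e2
  · subst e1 e2
    obtain rfl : a = 13 := by omega
    norm_num at e
  · subst e1
    push_cast at e
    linarith [hsmall c e2]
  · subst e2
    push_cast at e
    linarith [hsmall b e1]
  · linarith [hsmall b e1, hsmall c e2]

/-- The column sum of a principal block. -/
theorem principal_bounds {a b c : ℕ} {x y z : ℤ} (hx : x = 1 ∨ x = -1) (hy : y = 1 ∨ y = -1)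
    (hz : z = 1 ∨ z = -1) (hax : (4 : ℤ) ∣ (a : ℤ) - x) (hby : (4 : ℤ) ∣ (b : ℤ) - y)
    (hcz : (4 : ℤ) ∣ (c : ℤ) - z) (ha : a ≠ 1 ∧ a ≠ 3) (hb : b ≠ 1 ∧ b ≠ 3)
    (hc : c ≠ 1 ∧ c ≠ 3) (hsum : 1 + x * a + y * b + z * c = 0) :
    let K : ℚ := 1 + x / a + y / b + z / c
    5 / 7 < K ∧ K ≤ 7 / 5 ∧ K ≠ 8 / 7 ∧ K ≠ 8 / 11 := by
  intro K
  have hK : K = 1 + (x : ℚ) / a + (y : ℚ) / b + (z : ℚ) / c := rfl
  rcases hx with rfl | rfl <;> rcases hy with rfl | rfl <;> rcases hz with rfl | rfl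
  · omega
  · convert principal_ppn (a := a) (b := b) (c := c) (by omega) ha.1 (by omega) hb.1 (by omega)
      using 2 <;> rw [hK] <;> push_cast <;> ring
  · convert principal_ppn (a := a) (b := c) (c := b) (by omega) ha.1 (by omega) hc.1 (by omega)
      using 2 <;> rw [hK] <;> push_cast <;> ring
  · convert principal_pnn (a := a) (b := b) (c := c) (by omega) ha.1 (by omega) hb.2 (by omega)
      hc.2 (by omega) using 2 <;> rw [hK] <;> push_cast <;> ring
  · convert principal_ppn (a := b) (b := c) (c := a) (by omega) hb.1 (by omega) hc.1 (by omega)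
      using 2 <;> rw [hK] <;> push_cast <;> ring
  · convert principal_pnn (a := b) (b := a) (c := c) (by omega) hb.1 (by omega) ha.2 (by omega)
      hc.2 (by omega) using 2 <;> rw [hK] <;> push_cast <;> ring
  · convert principal_pnn (a := c) (b := a) (c := b) (by omega) hc.1 (by omega) ha.2 (by omega)
      hb.2 (by omega) using 2 <;> rw [hK] <;> push_cast <;> ring
  · omega

/-- Signed degrees with sum zero have small reciprocal sum. -/
theorem sum_div_le {ι : Type*} [DecidableEq ι] (s : Finset ι) (hs : s.card = 4) (d : ι → ℕ)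
    (e : ι → ℤ) (he : ∀ i ∈ s, e i = 1 ∨ e i = -1) (h4 : ∀ i ∈ s, (4 : ℤ) ∣ (d i : ℤ) - e i)
    (h1 : ∀ i ∈ s, d i ≠ 1) (h0 : ∑ i ∈ s, e i * (d i : ℤ) = 0) :
    ∑ i ∈ s, (e i : ℚ) / d i ≤ 3 / 5 := by
  have hpos : ∀ i ∈ s, 3 ≤ d i := fun i hi => by
    rcases exists_succ_four_mul (he i hi) (h4 i hi) with ⟨-, h⟩ | ⟨-, h⟩ <;>
      have := h1 i hi <;> omega
  obtain ⟨j, hj, hje⟩ : ∃ j ∈ s, e j = -1 := by
    by_contra hne
    push Not at hne
    have : ∀ i ∈ s, (3 : ℤ) ≤ e i * (d i : ℤ) := fun i hi => by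
      rw [(he i hi).resolve_right (hne i hi), one_mul]
      exact_mod_cast hpos i hi
    have := Finset.sum_le_sum this
    simp [h0, hs] at this
  rw [← Finset.add_sum_erase _ _ hj]
  have hle : ∀ i ∈ s.erase j, (e i : ℚ) / d i ≤ 1 / 5 := fun i hi => by
    have hi' := Finset.mem_of_mem_erase hi
    rcases he i hi' with h | h
    · rw [h, Int.cast_one]
      exact one_div_le_one_div_of_le (by norm_num)
        (by exact_mod_cast five_le h (h4 i hi') (h1 i hi'))
    · rw [h, Int.cast_neg, Int.cast_one]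
      exact (div_nonpos_of_nonpos_of_nonneg (by norm_num) (Nat.cast_nonneg _)).trans (by norm_num)
  have hsum := Finset.sum_le_sum hle
  rw [Finset.sum_const, Finset.card_erase_of_mem hj, hs, nsmul_eq_mul] at hsum
  have : (e j : ℚ) / d j ≤ 0 := by
    rw [hje]; exact div_nonpos_of_nonpos_of_nonneg (by norm_num) (Nat.cast_nonneg _)
  norm_num at hsum
  linarith

/-- Three orthogonal sign columns orthogonal to the positive degree column. -/
theorem three_columns (x y z D : Fin 4 → ℤ) (hx : ∀ i, x i = 1 ∨ x i = -1)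
    (hy : ∀ i, y i = 1 ∨ y i = -1) (hz : ∀ i, z i = 1 ∨ z i = -1) (hD : ∀ i, 0 < D i)
    (hxy : ∑ i, x i * y i = 0) (hxz : ∑ i, x i * z i = 0) (hyz : ∑ i, y i * z i = 0)
    (hxD : ∑ i, x i * D i = 0) (hyD : ∑ i, y i * D i = 0) (hzD : ∑ i, z i * D i = 0) :
    ∃ η d : ℤ, (η = 1 ∨ η = -1) ∧ 0 < d ∧ (∀ i, D i = d ∧ x i * y i * z i = η) ∧
      ∑ i, (x i + y i + z i) ^ 2 * x i = 8 * η := by
  set p : Fin 4 → ℤ := fun i => x i * y i * z i with hp
  have hp1 : ∀ i, p i = 1 ∨ p i = -1 := fun i => by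
    rcases hx i with a | a <;> rcases hy i with b | b <;> rcases hz i with c | c <;> simp [hp, a, b, c]
  have hsq : ∀ w : Fin 4 → ℤ, (∀ i, w i = 1 ∨ w i = -1) → ∀ i, w i * w i = 1 := fun w hw i => by
    rcases hw i with a | a <;> rw [a] <;> norm_num
  have hxp : ∑ i, x i * p i = 0 := by
    rw [← hyz]; exact Finset.sum_congr rfl fun i _ => by
      simp only [hp]; linear_combination (y i * z i) * hsq x hx i
  have hyp : ∑ i, y i * p i = 0 := by
    rw [← hxz]; exact Finset.sum_congr rfl fun i _ => by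
      simp only [hp]; linear_combination (x i * z i) * hsq y hy i
  have hzp : ∑ i, z i * p i = 0 := by
    rw [← hxy]; exact Finset.sum_congr rfl fun i _ => by
      simp only [hp]; linear_combination (x i * y i) * hsq z hz i
  set M : Matrix (Fin 4) (Fin 4) ℚ := Matrix.of fun r i => ((![x, y, z, p] r i : ℤ) : ℚ) with hM
  have hself : ∀ w : Fin 4 → ℤ, (∀ i, w i = 1 ∨ w i = -1) → ∑ i, (w i : ℚ) * w i = 4 := fun w hw => by
    have : ∑ i, w i * w i = 4 := by simp [hsq w hw]
    exact_mod_cast this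
  have hort : ∀ u w : Fin 4 → ℤ, ∑ i, u i * w i = 0 → ∑ i, (u i : ℚ) * w i = 0 :=
    fun u w h => by exact_mod_cast h
  have hort' : ∀ u w : Fin 4 → ℤ, ∑ i, u i * w i = 0 → ∑ i, (w i : ℚ) * u i = 0 := fun u w h => by
    rw [← hort u w h]; exact Finset.sum_congr rfl fun i _ => mul_comm _ _
  have hMM : M * ((1 / 4 : ℚ) • M.transpose) = 1 := by
    ext r s
    rw [Matrix.mul_apply]
    simp only [Matrix.smul_apply, Matrix.transpose_apply, smul_eq_mul, hM, Matrix.of_apply]
    rw [Finset.sum_congr rfl fun i _ => mul_left_comm _ _ _, ← Finset.mul_sum]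
    fin_cases r <;> fin_cases s <;>
      simp [hself x hx, hself y hy, hself z hz, hself p hp1, hort x y hxy, hort x z hxz,
        hort y z hyz, hort' x y hxy, hort' x z hxz, hort' y z hyz, hort x p hxp, hort y p hyp,
        hort z p hzp, hort' x p hxp, hort' y p hyp, hort' z p hzp]
  have hMM' : ((1 / 4 : ℚ) • M.transpose) * M = 1 := mul_eq_one_comm.mp hMM
  have hcomp : ∀ i j, x i * x j + y i * y j + z i * z j + p i * p j = if i = j then 4 else 0 := by
    intro i j
    have e := congrFun (congrFun hMM' i) j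
    rw [Matrix.mul_apply] at e
    simp only [Matrix.smul_apply, Matrix.transpose_apply, smul_eq_mul, hM, Matrix.of_apply,
      Fin.sum_univ_four, Matrix.one_apply] at e
    have h' : ((x i * x j + y i * y j + z i * z j + p i * p j : ℤ) : ℚ) =
        ((if i = j then 4 else 0 : ℤ) : ℚ) := by
      split_ifs at e ⊢ <;> simp at e <;> push_cast <;> linarith
    exact_mod_cast h'
  set S := ∑ j, p j * D j with hS
  have hDp : ∀ i, 4 * D i = p i * S := by
    intro i
    calc 4 * D i = ∑ j, (if i = j then 4 else 0) * D j := by simp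
      _ = ∑ j, (x i * (x j * D j) + y i * (y j * D j) + z i * (z j * D j) + p i * (p j * D j)) :=
        Finset.sum_congr rfl fun j _ => by rw [← hcomp]; ring
      _ = p i * S := by
        simp [Finset.sum_add_distrib, ← Finset.mul_sum, hxD, hyD, hzD, hS]
  have hp0 : ∀ i, p i = p 0 := fun i => by
    have h1 := hDp i
    have h2 := hDp 0
    have := hD i
    have := hD 0
    rcases hp1 i with a | a <;> rw [a] at h1 ⊢ <;> rcases hp1 0 with b | b <;>
      rw [b] at h2 ⊢ <;> omega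
  have hD0 : ∀ i, D i = D 0 := fun i => by
    have h1 := hDp i
    rw [hp0, ← hDp 0] at h1
    omega
  refine ⟨p 0, D 0, hp1 0, hD 0, fun i => ⟨hD0 i, hp0 i⟩, ?_⟩
  have hzero : ∀ w : Fin 4 → ℤ, ∑ i, w i * D i = 0 → ∑ i, w i = 0 := fun w h => by
    rw [Finset.sum_congr rfl fun i _ => show w i * D i = w i * D 0 by rw [hD0 i],
      ← Finset.sum_mul] at h
    exact (mul_eq_zero.1 h).resolve_right (hD 0).ne'
  calc ∑ i, (x i + y i + z i) ^ 2 * x i
      = ∑ i, (3 * x i + 2 * y i + 2 * z i + 2 * p 0) := Finset.sum_congr rfl fun i _ => by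
        rw [← hp0 i]
        simp only [hp]
        linear_combination (x i + 2 * y i + 2 * z i) * hsq x hx i + x i * hsq y hy i +
          x i * hsq z hz i
    _ = 8 * p 0 := by
      simp [Finset.sum_add_distrib, ← Finset.mul_sum, hzero x hxD, hzero y hyD, hzero z hzD]
      ring

end CfsgLib.FourCore42
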