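import Cfsg.Agent.Chars.Basic
import Cfsg.Agent.Blocks.Basic.Omega
import Mathlib.GroupTheory.NoncommCoprod

/-!
# Elementary tools for the columns at an involution

Congruences modulo two of algebraic integers, class functions as central elements, and
multiplicities on a subgroup times a commuting involution.
-/

set_option autoImplicit false

namespace CfsgLib.FourCore42

open Cfsg
open scoped ComplexConjugate

universe u

/-- Twice an algebraic integer. -/
def Even' (z : ℂ) : Prop := IsIntegral ℤ (z / 2)

theorem Even'.add {a b : ℂ} (ha : Even' a) (hb : Even' b) : Even' (a + b) := by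
  rw [Even', add_div]; exact IsIntegral.add ha hb

theorem Even'.sub {a b : ℂ} (ha : Even' a) (hb : Even' b) : Even' (a - b) := by
  rw [Even', sub_div]; exact IsIntegral.sub ha hb

theorem Even'.mul_left {a b : ℂ} (hc : IsIntegral ℤ a) (hb : Even' b) : Even' (a * b) := by
  rw [Even', mul_div_assoc]; exact hc.mul hb

theorem Even'.sum {ι : Type*} (s : Finset ι) (f : ι → ℂ) (h : ∀ i ∈ s, Even' (f i)) :
    Even' (∑ i ∈ s, f i) := by
  rw [Even', Finset.sum_div]; exact IsIntegral.sum _ h

theorem isIntegral_intCast (n : ℤ) : IsIntegral ℤ (n : ℂ) := by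
  simpa using isIntegral_algebraMap (R := ℤ) (A := ℂ) (x := n)

theorem isIntegral_natCast (n : ℕ) : IsIntegral ℤ (n : ℂ) := by
  simpa using isIntegral_intCast (n : ℤ)

theorem dvd_of_even' {n : ℤ} (h : Even' (n : ℂ)) : (2 : ℤ) ∣ n := by
  have h' : IsIntegral ℤ (((n.natAbs : ℕ) : ℂ) / ((2 : ℕ) : ℂ)) := by
    rcases n.natAbs_eq with e | e
    · rw [Even', e] at h
      simpa using h
    · rw [Even', e] at h
      simpa [neg_div] using h.neg
  exact Int.natCast_dvd.2 (Chars.dvd_of_isIntegral_div two_ne_zero h')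

/-- An odd multiplier can be cancelled. -/
theorem Even'.of_odd {z : ℂ} {n : ℤ} (hn : Odd n) (hz : IsIntegral ℤ z) (h : Even' (z * n)) :
    Even' z := by
  obtain ⟨k, rfl⟩ := hn
  have : z / 2 = z * ((2 * k + 1 : ℤ) : ℂ) / 2 - (k : ℂ) * z := by push_cast; ring
  rw [Even', this]
  exact IsIntegral.sub h ((isIntegral_intCast k).mul hz)

/-- A function invariant under an involutive map sums, modulo two, over the fixed points. -/
theorem even'_sum_moved {α : Type*} [Fintype α] [DecidableEq α] (σ : α → α)
    (hσ : ∀ x, σ (σ x) = x) (g : α → ℂ) (hg : ∀ x, g (σ x) = g x)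
    (hint : ∀ x, IsIntegral ℤ (g x)) :
    Even' ((∑ x, g x) - ∑ x ∈ Finset.univ.filter (fun x => σ x = x), g x) := by
  classical
  set e := Fintype.equivFin α
  set S := Finset.univ.filter fun x => e x < e (σ x) with hS
  set T := Finset.univ.filter fun x => e (σ x) < e x with hT
  have hTS : ∑ x ∈ T, g x = ∑ x ∈ S, g x :=
    Finset.sum_nbij' σ σ (fun x hx => by simpa [hS, hσ, hT] using hx)
      (fun x hx => by simpa [hT, hσ, hS] using hx) (fun x _ => hσ x) (fun x _ => hσ x)
      fun x _ => (hg x).symm
  have hsplit : (∑ x, g x) - ∑ x ∈ Finset.univ.filter (fun x => σ x = x), g x =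
      ∑ x ∈ T, g x + ∑ x ∈ S, g x := by
    rw [sub_eq_iff_eq_add', hS, hT, ← Finset.sum_union, ← Finset.sum_union]
    · refine Finset.sum_congr ?_ fun _ _ => rfl
      ext x
      simp only [Finset.mem_univ, Finset.mem_union, Finset.mem_filter, true_and, true_iff]
      rcases lt_trichotomy (e (σ x)) (e x) with h | h | h
      · exact Or.inr (Or.inl h)
      · exact Or.inl (e.injective h)
      · exact Or.inr (Or.inr h)
    · rw [Finset.disjoint_left]
      intro x hx hx'
      simp only [Finset.mem_union, Finset.mem_filter, Finset.mem_univ, true_and] at hx hx'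
      rw [hx] at hx'
      rcases hx' with h | h <;> exact lt_irrefl _ h
    · rw [Finset.disjoint_left]
      intro x hx hx'
      simp only [Finset.mem_filter, Finset.mem_univ, true_and] at hx hx'
      exact lt_asymm hx hx'
  rw [hsplit, hTS, Even', show (∑ x ∈ S, g x + ∑ x ∈ S, g x) / 2 = ∑ x ∈ S, g x by ring]
  exact IsIntegral.sum _ fun x _ => hint x

variable {G : Type u} [Group G] [Fintype G]

/-- The central character of a class function. -/
noncomputable def classOmega (f : G → ℂ) (χ : G → ℂ) : ℂ := (∑ x, f x * χ x) / χ 1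

theorem sum_mul_classFunction {f : G → ℂ} (hf : IsClassFunction G f) (χ : IrrCharacter G) (h : G) :
    ∑ x, f x * (χ : G → ℂ) (x * h) = classOmega f χ * (χ : G → ℂ) h := by
  have hN : (Nat.card G : ℂ) ≠ 0 := Chars.natCard_ne_zero
  refine mul_left_cancel₀ hN ?_
  calc (Nat.card G : ℂ) * ∑ x, f x * (χ : G → ℂ) (x * h)
      = ∑ a : G, ∑ x, f x * (χ : G → ℂ) (h * (a * x * a⁻¹)) := by
        rw [← nsmul_eq_mul, ← Finset.card_univ.trans Nat.card_eq_fintype_card.symm,
          ← Finset.sum_const]
        refine Finset.sum_congr rfl fun a _ => (Fintype.sum_equiv (MulAut.conj a).toEquiv _ _ ?_).symm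
        intro x
        show f x * _ = f (a * x * a⁻¹) * (χ : G → ℂ) (a * x * a⁻¹ * h)
        rw [hf x a, Chars.classFunction_mul_comm (Chars.isClassFunction_coe χ)]
    _ = ∑ x, f x * ((Nat.card G : ℂ) * ((χ : G → ℂ) h * (χ : G → ℂ) x) / (χ : G → ℂ) 1) := by
        rw [Finset.sum_comm]
        exact Finset.sum_congr rfl fun x _ => by
          rw [← Chars.sum_map_mul_conjugate, Finset.mul_sum]
    _ = _ := by
        rw [classOmega, Finset.sum_div, Finset.sum_mul, Finset.mul_sum]
        exact Finset.sum_congr rfl fun x _ => by ring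

theorem isIntegral_classOmega {f : G → ℂ} (hf : IsClassFunction G f)
    (hint : ∀ x, IsIntegral ℤ (f x)) (χ : IrrCharacter G) :
    IsIntegral ℤ (classOmega f (χ : G → ℂ)) := by
  classical
  haveI : Fintype (ConjClasses G) := Fintype.ofFinite _
  rw [classOmega, Finset.sum_div,
    ← Finset.sum_fiberwise Finset.univ ConjClasses.mk fun x => f x * (χ : G → ℂ) x / (χ : G → ℂ) 1]
  refine IsIntegral.sum _ fun c _ => ?_
  obtain ⟨g, rfl⟩ := ConjClasses.mk_surjective c
  have hset : (Finset.univ.filter fun x => ConjClasses.mk x = ConjClasses.mk g) =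
      Finset.univ.filter (IsConj g) := by
    ext x
    simp only [Finset.mem_filter, Finset.mem_univ, true_and, ConjClasses.mk_eq_mk_iff_isConj]
    exact isConj_comm
  rw [hset, Finset.sum_congr rfl (g := fun _ => f g * (χ : G → ℂ) g / (χ : G → ℂ) 1) fun x hx => by
      rw [Chars.eq_of_isConj hf (Finset.mem_filter.1 hx).2,
        Chars.eq_of_isConj (Chars.isClassFunction_coe χ) (Finset.mem_filter.1 hx).2],
    Finset.sum_const, nsmul_eq_mul]
  have : ((Finset.univ.filter (IsConj g)).card : ℂ) * (f g * (χ : G → ℂ) g / (χ : G → ℂ) 1) =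
      f g * Cfsg.centralChar (χ : G → ℂ) g := by
    rw [Cfsg.centralChar, ← Blocks.card_conjugates, Nat.card_eq_fintype_card, Fintype.card_subtype]
    ring
  rw [this]
  exact (hint g).mul (Blocks.centralChar_isIntegral χ.2 g)

/-- Multiplicities on a subgroup times a commuting involution. -/
theorem exists_nat_coset (H : Subgroup G) [Fintype H] {e : G} (he : orderOf e = 2)
    (hc : ∀ h ∈ H, Commute h e) {χ : G → ℂ} (hχ : IsCharacter G χ) {ψ : H → ℂ}
    (hψ : IsCharacter H ψ) :
    ∃ n m : ℕ, classInner (fun h : H => χ h) ψ = m ∧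
      classInner (fun h : H => χ (e * h)) ψ = 2 * (n : ℂ) - m := by
  classical
  haveI := Fintype.ofFinite (Subgroup.zpowers e)
  let φ : H × Subgroup.zpowers e →* G := MonoidHom.noncommCoprod H.subtype (Subgroup.zpowers e).subtype
    fun h k => by
      obtain ⟨i, hi⟩ := Subgroup.mem_zpowers_iff.1 k.2
      show Commute (h : G) (k : G)
      rw [← hi]
      exact (hc _ h.2).zpow_right i
  obtain ⟨m, hm⟩ := Chars.exists_nat_classInner' (Chars.isCharacter_restrict hχ H) hψ
  obtain ⟨n, hn⟩ := Chars.exists_nat_classInner' (Chars.isCharacter_comp hχ φ)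
    (Chars.isCharacter_comp hψ (MonoidHom.fst H (Subgroup.zpowers e)))
  refine ⟨n, m, hm, ?_⟩
  set e' : Subgroup.zpowers e := ⟨e, Subgroup.mem_zpowers e⟩
  have hcard : Nat.card (Subgroup.zpowers e) = 2 := by rw [Nat.card_zpowers, he]
  have hne : (1 : Subgroup.zpowers e) ≠ e' := fun h => by
    have := congrArg Subtype.val h
    simp only [OneMemClass.coe_one, e'] at this
    rw [← this, orderOf_one] at he
    omega
  have huniv : (Finset.univ : Finset (Subgroup.zpowers e)) = {1, e'} :=
    (Finset.eq_univ_of_card _ (by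
      rw [Finset.card_pair hne, ← Nat.card_eq_fintype_card, hcard])).symm
  have key : classInner (fun h : H => χ h) ψ + classInner (fun h : H => χ (e * h)) ψ =
      2 * (n : ℂ) := by
    rw [← hn]
    simp only [classInner, Nat.card_prod, hcard, Fintype.sum_prod_type, huniv,
      Finset.sum_pair hne, Finset.sum_add_distrib, φ, MonoidHom.noncommCoprod_apply,
      Function.comp_apply, Subgroup.coe_subtype, MonoidHom.coe_fst, OneMemClass.coe_one, mul_one, e']
    have : ∀ h : H, χ ((h : G) * e) = χ (e * h) := fun h => by rw [(hc _ h.2).eq]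
    simp only [this]
    push_cast
    field_simp
  linear_combination key - hm

end CfsgLib.FourCore42
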