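import Cfsg.Agent.FourCore42.Klein

/-!
# A normal complement of the centraliser of the four-group forces it to be trivial
-/

set_option autoImplicit false
set_option linter.style.haveILetI false

namespace CfsgLib.FourCore42

open Cfsg CfsgLib.KleinFourBlock

universe u

variable {G : Type u} [Group G] [Finite G]

/-- If the abelian group `A = U ∩ C(P)` has a complement in `U` normalised by `U` and by `P`, then
it is trivial. -/
theorem eq_bot_of_complement [IsSimpleGroup G] (hna : ∃ a b : G, a * b ≠ b * a) (P : Sylow 2 G)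
    (hP : IsKleinFour (P : Subgroup G)) {t : G} (ht : t ∈ (P : Subgroup G)) (ht1 : t ≠ 1)
    {U A : Subgroup G} (hS : Setup t U)
    (hA : A = U ⊓ Subgroup.centralizer ((P : Subgroup G) : Set G))
    (hAcomm : ∀ a ∈ A, ∀ b ∈ A, a * b = b * a) (N : Subgroup G) (hNU : N ≤ U)
    (hNnorm : ∀ u ∈ U, ∀ x ∈ N, u * x * u⁻¹ ∈ N)
    (hNP : ∀ p ∈ (P : Subgroup G), ∀ x ∈ N, p * x * p⁻¹ ∈ N) (hNA : N ⊓ A = ⊥)
    (hgen : ∀ u ∈ U, ∃ x ∈ N, ∃ a ∈ A, u = x * a) : A = ⊥ := by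
  classical
  haveI := Fintype.ofFinite G
  choose x hx a ha he using hgen
  have huniq : ∀ {x₁ x₂ a₁ a₂ : G}, x₁ ∈ N → x₂ ∈ N → a₁ ∈ A → a₂ ∈ A →
      x₁ * a₁ = x₂ * a₂ → a₁ = a₂ := by
    intro x₁ x₂ a₁ a₂ h₁ h₂ k₁ k₂ e
    have h : x₂⁻¹ * x₁ = a₂ * a₁⁻¹ := by
      rw [inv_mul_eq_iff_eq_mul, ← mul_assoc, eq_mul_inv_iff_mul_eq]; exact e
    have hmem : x₂⁻¹ * x₁ ∈ N ⊓ A :=
      Subgroup.mem_inf.2 ⟨N.mul_mem (N.inv_mem h₂) h₁, h ▸ A.mul_mem k₂ (A.inv_mem k₁)⟩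
    rw [hNA, Subgroup.mem_bot, h] at hmem
    exact (mul_inv_eq_one.1 hmem).symm
  have hAU : A ≤ U := hA ▸ inf_le_left
  have hr : ∀ (v : G) (hv : v ∈ U) (n b : G), n ∈ N → b ∈ A → v = n * b → a v hv = b :=
    fun v hv n b hn hb e => huniq (hx v hv) hn (ha v hv) hb ((he v hv).symm.trans e)
  let r : U →* A :=
    { toFun := fun u => ⟨a u u.2, ha u u.2⟩
      map_one' := Subtype.ext (hr _ _ 1 1 N.one_mem A.one_mem (by simp))
      map_mul' := fun u v => Subtype.ext (by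
        refine hr _ _ (x u u.2 * (a u u.2 * x v v.2 * (a u u.2)⁻¹)) (a u u.2 * a v v.2)
          (N.mul_mem (hx u u.2) (hNnorm _ (hAU (ha u u.2)) _ (hx v v.2)))
          (A.mul_mem (ha u u.2) (ha v v.2)) ?_
        rw [Subgroup.coe_mul]
        conv_lhs => rw [he u u.2, he v v.2]
        group) }
  refine eq_bot_of_retraction hna P hP ht ht1 hS hA hAcomm r (fun b hbU hb => Subtype.ext ?_)
    (fun p hp hpt v => Subtype.ext ?_)
  · exact hr b hbU 1 b N.one_mem hb (one_mul b).symm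
  · refine hr _ _ (p * x v v.2 * p⁻¹) (a v v.2) (hNP p hp _ (hx v v.2)) (ha v v.2) ?_
    have hb : a v v.2 ∈ U ⊓ Subgroup.centralizer ((P : Subgroup G) : Set G) := hA ▸ ha v v.2
    have hc := Subgroup.mem_centralizer_iff.1 (Subgroup.mem_inf.1 hb).2 p hp
    show p * (v : G) * p⁻¹ = _
    conv_lhs => rw [he v v.2, show p * (x v v.2 * a v v.2) * p⁻¹ =
      (p * x v v.2 * p⁻¹) * (p * a v v.2 * p⁻¹) by group, hc, mul_inv_cancel_right]

end CfsgLib.FourCore42
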