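import Cfsg.Agent.FourCore42.Linear
import Cfsg.Agent.FourCore42.Arith

/-!
# No invariant linear character of the core is moved or fixed by the rotation
-/

set_option autoImplicit false
set_option linter.style.haveILetI false

namespace CfsgLib.FourCore42

open Cfsg
open scoped ComplexConjugate

universe u

variable {G : Type u} [Group G] [Fintype G]

/-- A rotation `w` of `A ≤ U` controlling the fusion in `U`. -/
structure Rot (t : G) (U A : Subgroup G) (w : G) : Prop where
  setup : Setup t U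
  le : A ≤ U
  mem : ∀ a ∈ A, w * a * w⁻¹ ∈ A
  mem' : ∀ a ∈ A, w⁻¹ * a * w ∈ A
  fusion : ∀ x y : G, x ∈ U → y ∈ U → IsConj x y →
    (∃ c, Commute c t ∧ c * x * c⁻¹ = y) ∨
    ∃ c d a, Commute c t ∧ Commute d t ∧ a ∈ A ∧ c * x * c⁻¹ = a ∧
      ∃ i : ℕ, d * y * d⁻¹ = w ^ i * a * (w ^ i)⁻¹

namespace Rot

variable {t : G} {U A : Subgroup G} {w : G}

omit [Fintype G] in
theorem pow_mem (h : Rot t U A w) {a : G} (ha : a ∈ A) (i : ℕ) : w ^ i * a * (w ^ i)⁻¹ ∈ A := by
  induction i with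
  | zero => simpa using ha
  | succ i ih =>
    rw [show w ^ (i + 1) * a * (w ^ (i + 1))⁻¹ = w * (w ^ i * a * (w ^ i)⁻¹) * w⁻¹ by
      rw [pow_succ']; group]
    exact h.mem _ ih

omit [Fintype G] in
theorem sum_eq_of_isConj (h : Rot t U A w) (S : Finset (U →* ℂˣ))
    (hinv : ∀ θ ∈ S, h.setup.Invariant θ)
    (hS : ∀ (a : G) (ha : a ∈ A), ∑ θ ∈ S, ((θ ⟨w * a * w⁻¹, h.le (h.mem a ha)⟩ : ℂˣ) : ℂ) =
      ∑ θ ∈ S, ((θ ⟨a, h.le ha⟩ : ℂˣ) : ℂ)) :
    ∀ x y : U, IsConj (x : G) y → ∑ θ ∈ S, ((θ x : ℂˣ) : ℂ) = ∑ θ ∈ S, ((θ y : ℂˣ) : ℂ) := by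
  intro x y hxy
  have hc : ∀ (c : G) (hc : Commute c t) (z z' : U), c * z * c⁻¹ = z' →
      ∑ θ ∈ S, ((θ z : ℂˣ) : ℂ) = ∑ θ ∈ S, ((θ z' : ℂˣ) : ℂ) := fun c hc z z' e =>
    Finset.sum_congr rfl fun θ hθ => by
      rw [← hinv θ hθ c hc z]
      congr 2
      exact Subtype.ext e
  rcases h.fusion x y x.2 y.2 hxy with ⟨c, hc', e⟩ | ⟨c, d, a, hc', hd, ha, e1, i, e2⟩
  · exact hc c hc' x y e
  · rw [hc c hc' x ⟨a, h.le ha⟩ e1, hc d hd y ⟨_, h.le (h.pow_mem ha i)⟩ e2]
    clear e2
    induction i with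
    | zero => simp
    | succ i ih =>
      rw [ih, ← hS _ (h.pow_mem ha i)]
      refine Finset.sum_congr rfl fun θ _ => ?_
      congr 2
      exact Subtype.ext (by simp [pow_succ', mul_assoc])

variable [Fintype U]

theorem lcoef_oneChar (hS : Setup t U) : hS.lcoef (Chars.oneChar G) 1 = 1 := by
  apply Int.cast_injective (α := ℂ)
  rw [Setup.lcoef, ← hS.coef_spec, Int.cast_one, ← Chars.classInner_self (Chars.linChar (1 : U →* ℂˣ))]
  refine congrArg (fun f : U → ℂ => classInner f (Chars.linChar (1 : U →* ℂˣ) : U → ℂ)) ?_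
  funext v
  simp [colFun]

/-- The values on `t U` of a character with a coefficient on the trivial character. -/
theorem apply_of_mem_principal (hS : Setup t U) {χ : IrrCharacter G} (hχ : χ ∈ hS.support 1)
    (v : U) : (χ : G → ℂ) (t * (v : G)) = (hS.lcoef χ 1 : ℂ) := by
  rw [hS.apply_eq_sum {1} (by simp) χ (Finset.mem_singleton_self 1) (hS.mem_support.1 hχ) v]
  simp

/-- **The core theorem.**  Three linear characters of `U`, invariant in the centraliser of `t` and
permuted cyclically by the rotation on `A`, are trivial on `A`. -/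
theorem false_of_rotated (h : Rot t U A w)
    (hmod : ∀ (χ : IrrCharacter G) (e : ℤ), (χ : G → ℂ) t = e →
      (4 : ℤ) ∣ (charDegree (χ : G → ℂ) : ℤ) - e)
    (hlin : ∀ χ : IrrCharacter G, charDegree (χ : G → ℂ) = 1 → χ = Chars.oneChar G)
    (hne3 : ∀ χ ∈ h.setup.support 1, charDegree (χ : G → ℂ) ≠ 3)
    (θ : Fin 3 → (U →* ℂˣ)) (hinv : ∀ i, h.setup.Invariant (θ i))
    (hrot : ∀ (i : Fin 3) (a : G) (ha : a ∈ A),
      θ i ⟨w * a * w⁻¹, h.le (h.mem a ha)⟩ = θ (i + 1) ⟨a, h.le ha⟩)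
    (hA : ∃ (a : G) (ha : a ∈ A), θ 0 ⟨a, h.le ha⟩ ≠ 1) : False := by
  classical
  set hS := h.setup with hSdef
  have h1mem : Chars.oneChar G ∈ hS.support 1 := by
    rw [hS.mem_support, lcoef_oneChar hS]; exact one_ne_zero
  have hval : ∀ χ ∈ hS.support 1, (χ : G → ℂ) t = (hS.lcoef χ 1 : ℂ) := fun χ hχ => by
    simpa using apply_of_mem_principal hS hχ 1
  set d : IrrCharacter G → ℕ := fun χ => charDegree (χ : G → ℂ) with hd
  have hd1 : d (Chars.oneChar G) = 1 := Chars.charDegree_linChar 1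
  have hdeg : ∀ χ ∈ (hS.support 1).erase (Chars.oneChar G),
      (hS.lcoef χ 1 = 1 ∨ hS.lcoef χ 1 = -1) ∧ (4 : ℤ) ∣ (d χ : ℤ) - hS.lcoef χ 1 ∧
        (d χ ≠ 1 ∧ d χ ≠ 3) := fun χ hχ => by
    obtain ⟨hne, hm⟩ := Finset.mem_erase.1 hχ
    exact ⟨hS.lcoef_sq hm, hmod χ _ (hval χ hm), fun e => hne (hlin χ e), hne3 χ hm⟩
  set K : ℚ := ∑ χ ∈ hS.support 1, (hS.lcoef χ 1 : ℚ) / d χ with hK
  have hK1 : 5 / 7 < K ∧ K ≤ 7 / 5 ∧ K ≠ 8 / 7 ∧ K ≠ 8 / 11 := by
    have hcard : ((hS.support 1).erase (Chars.oneChar G)).card = 3 := by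
      rw [Finset.card_erase_of_mem h1mem, hS.card_support hS.invariant_one]
    obtain ⟨p, q, r, hpq, hpr, hqr, he⟩ := Finset.card_eq_three.1 hcard
    obtain ⟨hp1, hp2, hp3⟩ := hdeg p (by rw [he]; simp)
    obtain ⟨hq1, hq2, hq3⟩ := hdeg q (by rw [he]; simp)
    obtain ⟨hr1, hr2, hr3⟩ := hdeg r (by rw [he]; simp)
    have h0 := hS.sum_support_degree 1
    rw [← Finset.add_sum_erase _ _ h1mem, he] at h0
    simp only [Finset.sum_insert, Finset.mem_insert, Finset.mem_singleton, hpq, hpr, hqr, or_self,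
      not_false_eq_true, Finset.sum_singleton, lcoef_oneChar hS] at h0
    rw [show charDegree ((Chars.oneChar G : IrrCharacter G) : G → ℂ) = 1 from hd1,
      Nat.cast_one, mul_one] at h0
    have hKe : K = 1 + (hS.lcoef p 1 : ℚ) / d p + (hS.lcoef q 1 : ℚ) / d q +
        (hS.lcoef r 1 : ℚ) / d r := by
      rw [hK, ← Finset.add_sum_erase _ _ h1mem, he]
      simp [hpq, hpr, hqr, lcoef_oneChar hS, hd1, add_assoc]
    rw [hKe]
    exact principal_bounds hp1 hq1 hr1 hp2 hq2 hr2 hp3 hq3 hr3 (by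
      rw [mul_comm (hS.lcoef p 1), mul_comm (hS.lcoef q 1), mul_comm (hS.lcoef r 1)]
      simp only [hd]
      linarith)
  have hw1 : hS.weight 1 = (K : ℂ) := by
    rw [Setup.weight, hK]
    push_cast
    refine Finset.sum_congr rfl fun χ hχ => ?_
    rw [hval χ hχ, ← Chars.coe_charDegree]
    have : ((hS.lcoef χ 1 : ℂ)) ^ 2 = 1 := by rcases hS.lcoef_sq hχ with e | e <;> simp [e]
    rw [this, one_mul]
  have hone : ∀ φ : U →* ℂˣ, φ ≠ 1 → Chars.oneChar G ∉ hS.support φ := by
    intro φ hφ hm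
    refine hS.mem_support.1 hm (Int.cast_injective (α := ℂ) ?_)
    have h' := Setup.classInner_lin (G := G) (U := U) 1 φ
    rw [if_neg (Ne.symm hφ)] at h'
    rw [Setup.lcoef, ← hS.coef_spec, Int.cast_zero, ← h']
    refine congrArg (fun f : U → ℂ => classInner f (Chars.linChar φ : U → ℂ)) ?_
    funext v
    simp [colFun]
  by_cases hfix : ∀ (a : G) (ha : a ∈ A), θ 1 ⟨a, h.le ha⟩ = θ 0 ⟨a, h.le ha⟩
  · have hfus := h.sum_eq_of_isConj {θ 0} (fun φ hφ => by
      rw [Finset.mem_singleton.1 hφ]; exact hinv 0) (fun a ha => by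
      simp only [Finset.sum_singleton]
      rw [hrot 0 a ha, show (0 : Fin 3) + 1 = 1 from rfl, hfix a ha])
    obtain ⟨a, ha, hne⟩ := hA
    have hθ1 : θ 0 ≠ 1 := fun e => hne (by rw [e]; rfl)
    have hval0 : ∀ χ ∈ hS.support (θ 0), (χ : G → ℂ) t = (hS.lcoef χ (θ 0) : ℂ) := by
      intro χ hχ
      have := hS.apply_eq_sum {θ 0} hfus χ (Finset.mem_singleton_self _) (hS.mem_support.1 hχ) 1
      simpa using this
    have hle := sum_div_le (hS.support (θ 0)) (hS.card_support (hinv 0)) d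
      (fun χ => hS.lcoef χ (θ 0)) (fun χ hχ => hS.lcoef_sq hχ)
      (fun χ hχ => hmod χ _ (hval0 χ hχ)) (fun χ hχ e => hone _ hθ1 (hlin χ e ▸ hχ))
      (by
        have := hS.sum_support_degree (θ 0)
        simpa only [hd, mul_comm] using this)
    have hw0 : hS.weight (θ 0) =
        ((∑ χ ∈ hS.support (θ 0), (hS.lcoef χ (θ 0) : ℚ) / d χ : ℚ) : ℂ) := by
      rw [Setup.weight]
      push_cast
      refine Finset.sum_congr rfl fun χ hχ => ?_
      rw [hval0 χ hχ, ← Chars.coe_charDegree]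
      have : ((hS.lcoef χ (θ 0) : ℂ)) ^ 2 = 1 := by rcases hS.lcoef_sq hχ with e | e <;> simp [e]
      rw [this, one_mul]
    rw [hS.weight_eq_weight_one (hinv 0), hw1] at hw0
    have hKeq := Rat.cast_injective hw0
    rw [← hKeq] at hle
    linarith [hK1.1]
  · -- the moved case
    push Not at hfix
    obtain ⟨a₀, ha₀, hfix⟩ := hfix
    haveI := Fintype.ofFinite A
    let β : Fin 3 → (A →* ℂˣ) := fun i => (θ i).comp (Subgroup.inclusion h.le)
    have hstep : ∀ i j, β i = β j → β (i + 1) = β (j + 1) := fun i j e => by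
      refine MonoidHom.ext fun a => ?_
      have := DFunLike.congr_fun e ⟨w * a * w⁻¹, h.mem a a.2⟩
      exact ((hrot i a a.2).symm.trans this).trans (hrot j a a.2)
    have h10 : β 1 ≠ β 0 := fun e => hfix (DFunLike.congr_fun e ⟨a₀, ha₀⟩)
    have hβinj : Function.Injective β := by
      intro i j e
      by_contra hne
      have e1 := hstep i j e
      have e2 := hstep _ _ e1
      fin_cases i <;> fin_cases j <;> simp at hne e e1 e2 <;>
        first
          | exact h10 e | exact h10 e.symm | exact h10 e1 | exact h10 e1.symm | exact h10 e2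
          | exact h10 e2.symm
    have hθinj : Function.Injective θ := fun i j e => hβinj (by simp only [β, e])
    set S : Finset (U →* ℂˣ) := Finset.univ.image θ with hSet
    have hsum : ∀ f : (U →* ℂˣ) → ℂ, ∑ φ ∈ S, f φ = ∑ i, f (θ i) := fun f =>
      Finset.sum_image fun i _ j _ e => hθinj e
    have hfus := h.sum_eq_of_isConj S (fun φ hφ => by
        obtain ⟨i, -, rfl⟩ := Finset.mem_image.1 hφ; exact hinv i) (fun a ha => by
      rw [hsum, hsum]
      simp only [hrot _ a ha]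
      exact Fintype.sum_equiv (Equiv.addRight (1 : Fin 3)) _ _ fun i => rfl)
    set e : IrrCharacter G → Fin 3 → ℤ := fun χ i => hS.lcoef χ (θ i) with he
    have hcol : ∀ χ, ∀ i, e χ i ≠ 0 → ∀ v : U,
        (χ : G → ℂ) (t * (v : G)) = ∑ j, (e χ j : ℂ) * ((θ j v : ℂˣ) : ℂ) := fun χ i hi v => by
      rw [hS.apply_eq_sum S hfus χ (Finset.mem_image_of_mem θ (Finset.mem_univ i)) hi v, hsum]
    have hβ : ∀ i j, classInner (fun a : A => ((β i a : ℂˣ) : ℂ))
        (fun a : A => ((β j a : ℂˣ) : ℂ)) = if i = j then 1 else 0 := fun i j => by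
      show classInner (Chars.linChar (β i) : A → ℂ) (Chars.linChar (β j) : A → ℂ) = _
      rw [Chars.classInner_irr]
      exact if_congr (Chars.linChar_injective.eq_iff.trans hβinj.eq_iff) rfl rfl
    have hpar : ∀ χ : IrrCharacter G, ∀ i, e χ i ≠ 0 → ∀ j, (2 : ℤ) ∣ e χ j - e χ (j + 1) := by
      intro χ i hi j
      obtain ⟨n, m, hm, hn⟩ := exists_nat_coset A hS.ht
        (fun a ha => (hS.comm a (h.le ha)).symm) (Chars.isCharacter_coe χ)
        (Chars.isCharacter_coe (Chars.linChar (β j)))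
      obtain ⟨n', m', hm', hn'⟩ := exists_nat_coset A (e := w * t * w⁻¹)
        (by rw [← MulAut.conj_apply, MulEquiv.orderOf_eq]; exact hS.ht)
        (fun a ha => by
          have hc := (hS.comm _ (h.le (h.mem' a ha))).symm.eq
          show a * (w * t * w⁻¹) = w * t * w⁻¹ * a
          calc a * (w * t * w⁻¹) = w * (w⁻¹ * a * w * t) * w⁻¹ := by group
            _ = _ := by rw [hc]; group)
        (Chars.isCharacter_coe χ) (Chars.isCharacter_coe (Chars.linChar (β j)))
      have e1 : classInner (fun a : A => (χ : G → ℂ) (t * a)) (Chars.linChar (β j) : A → ℂ) =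
          (e χ j : ℂ) := by
        have : (fun a : A => (χ : G → ℂ) (t * a)) =
            ∑ k, (e χ k : ℂ) • fun a : A => ((β k a : ℂˣ) : ℂ) := by
          funext a
          rw [Finset.sum_apply]
          exact hcol χ i hi ⟨a, h.le a.2⟩
        rw [this, Chars.classInner_sum_left]
        simp only [Chars.classInner_smul_left]
        show ∑ k, (e χ k : ℂ) * classInner (fun a : A => ((β k a : ℂˣ) : ℂ))
          (fun a : A => ((β j a : ℂˣ) : ℂ)) = _
        simp [hβ]
      have e2 : classInner (fun a : A => (χ : G → ℂ) (w * t * w⁻¹ * a))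
          (Chars.linChar (β j) : A → ℂ) = (e χ (j + 1) : ℂ) := by
        have : (fun a : A => (χ : G → ℂ) (w * t * w⁻¹ * a)) =
            ∑ k, (e χ (k + 1) : ℂ) • fun a : A => ((β k a : ℂˣ) : ℂ) := by
          funext a
          rw [Finset.sum_apply, show w * t * w⁻¹ * (a : G) = w * (t * (w⁻¹ * a * w)) * w⁻¹ by group,
            Chars.isClassFunction_coe χ (t * (w⁻¹ * a * w)) w,
            hcol χ i hi ⟨_, h.le (h.mem' a a.2)⟩]
          refine (Fintype.sum_equiv (Equiv.addRight (1 : Fin 3)) _ _ fun k => ?_).symm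
          show (e χ (k + 1) : ℂ) * ((β k a : ℂˣ) : ℂ) = _
          congr 2
          rw [Equiv.coe_addRight, ← hrot k _ (h.mem' a a.2)]
          exact congrArg (θ k) (Subtype.ext (by simp [mul_assoc]))
        rw [this, Chars.classInner_sum_left]
        simp only [Chars.classInner_smul_left]
        show ∑ k, (e χ (k + 1) : ℂ) * classInner (fun a : A => ((β k a : ℂˣ) : ℂ))
          (fun a : A => ((β j a : ℂˣ) : ℂ)) = _
        simp [hβ]
      rw [e1] at hn
      rw [e2] at hn'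
      have hmm : (m : ℂ) = m' := hm.symm.trans hm'
      refine ⟨(n : ℤ) - n', Int.cast_injective (α := ℂ) ?_⟩
      push_cast
      linear_combination hn - hn' - hmm
    have hall : ∀ χ : IrrCharacter G, ∀ i, e χ i ≠ 0 → ∀ j, e χ j ≠ 0 := by
      intro χ i hi j hj
      have p0 := hpar χ i hi 0
      have p1 := hpar χ i hi 1
      rw [show (0 : Fin 3) + 1 = 1 from rfl] at p0
      rw [show (1 : Fin 3) + 1 = 2 from rfl] at p1
      rcases hS.lcoef_sq (hS.mem_support.2 hi) with hh | hh <;>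
        change e χ i = _ at hh <;> fin_cases i <;> fin_cases j <;> simp at hh hj <;> omega
    set eqv := (hS.support (θ 0)).equivFinOfCardEq (hS.card_support (hinv 0))
    set c : Fin 4 → IrrCharacter G := fun k => (eqv.symm k : IrrCharacter G) with hc
    have hcm : ∀ k j, e (c k) j ≠ 0 := fun k => hall _ 0 (hS.mem_support.1 (eqv.symm k).2)
    have hre : ∀ f : IrrCharacter G → ℤ, ∑ χ ∈ hS.support (θ 0), f χ = ∑ k, f (c k) := fun f => by
      rw [← Finset.sum_coe_sort]
      exact (Equiv.sum_comp eqv.symm fun x => f (x : IrrCharacter G)).symm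
    have hsupp : ∀ j, hS.support (θ j) = hS.support (θ 0) := fun j => Finset.ext fun χ => by
      rw [hS.mem_support, hS.mem_support]
      exact ⟨fun hx => hall χ j hx 0, fun hx => hall χ 0 hx j⟩
    have hort : ∀ i j, i ≠ j → ∑ k, e (c k) i * e (c k) j = 0 := fun i j hij => by
      have h' := hS.sum_lcoef_mul (θ := θ i) (hinv j)
      rw [if_neg (hθinj.ne hij), ← Finset.sum_subset (Finset.subset_univ (hS.support (θ 0)))
        fun χ _ hχ => by
          rw [not_not.1 (hS.mem_support.not.1 ((hsupp i).symm ▸ hχ)), zero_mul]] at h'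
      rw [← hre fun χ => e χ i * e χ j]
      exact h'
    have hdz : ∀ j, ∑ k, e (c k) j * (d (c k) : ℤ) = 0 := fun j => by
      have h' := hS.sum_support_degree (θ j)
      rw [hsupp] at h'
      rw [← hre fun χ => e χ j * (d χ : ℤ), ← h']
      exact Finset.sum_congr rfl fun χ _ => mul_comm _ _
    obtain ⟨η, D, hη, hD, hDk, hsum8⟩ := three_columns (fun k => e (c k) 0) (fun k => e (c k) 1)
      (fun k => e (c k) 2) (fun k => (d (c k) : ℤ))
      (fun k => hS.lcoef_sq (hS.mem_support.2 (hcm k 0)))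
      (fun k => hS.lcoef_sq (hS.mem_support.2 (hcm k 1)))
      (fun k => hS.lcoef_sq (hS.mem_support.2 (hcm k 2)))
      (fun k => by simp only [hd]; exact_mod_cast Chars.charDegree_pos (c k))
      (hort 0 1 (by decide)) (hort 0 2 (by decide)) (hort 1 2 (by decide)) (hdz 0) (hdz 1) (hdz 2)
    have hvalt : ∀ k, ((c k : IrrCharacter G) : G → ℂ) t =
        ((e (c k) 0 + e (c k) 1 + e (c k) 2 : ℤ) : ℂ) := fun k => by
      have := hcol (c k) 0 (hcm k 0) 1
      simpa [Fin.sum_univ_three] using this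
    have hw0 : hS.weight (θ 0) = ((8 * η / D : ℚ) : ℂ) := by
      have h8 : (∑ k, (e (c k) 0 + e (c k) 1 + e (c k) 2 : ℂ) ^ 2 * (e (c k) 0 : ℂ)) = 8 * (η : ℂ) := by
        exact_mod_cast hsum8
      rw [Setup.weight, ← Finset.sum_coe_sort, ← Equiv.sum_comp eqv.symm]
      push_cast
      rw [← h8, Finset.sum_div]
      refine Finset.sum_congr rfl fun k _ => ?_
      show ((c k : IrrCharacter G) : G → ℂ) t ^ 2 * (e (c k) 0 : ℂ) / (c k : G → ℂ) 1 = _
      rw [hvalt, ← Chars.coe_charDegree, ← (hDk k).1]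
      push_cast
      rfl
    rw [hS.weight_eq_weight_one (hinv 0), hw1] at hw0
    have hKeq : K = 8 * η / D := Rat.cast_injective hw0
    have hDq : (0 : ℚ) < D := by exact_mod_cast hD
    have hη1 : η = 1 := hη.resolve_right fun e1 => by
      rw [e1] at hKeq
      have : K < 0 := by rw [hKeq]; exact div_neg_of_neg_of_pos (by norm_num) hDq
      linarith [hK1.1]
    subst hη1
    have h4 : D % 4 = 3 := by
      have h4' := hmod (c 0) _ (hvalt 0)
      rw [show (charDegree ((c 0 : IrrCharacter G) : G → ℂ) : ℤ) = D from (hDk 0).1] at h4'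
      have hp := (hDk 0).2
      have h0 := hS.lcoef_sq (hS.mem_support.2 (hcm 0 0))
      have h1 := hS.lcoef_sq (hS.mem_support.2 (hcm 0 1))
      have h2 := hS.lcoef_sq (hS.mem_support.2 (hcm 0 2))
      simp only [he] at hp h4'
      rcases h0 with a | a <;> rcases h1 with b | b <;> rcases h2 with f | f <;>
        rw [a, b, f] at hp h4' <;> omega
    rcases (show D = 3 ∨ D = 7 ∨ D = 11 ∨ 15 ≤ D by omega) with rfl | rfl | rfl | h15
    · norm_num at hKeq; linarith [hK1.2.1]
    · exact hK1.2.2.1 (by rw [hKeq]; norm_num)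
    · exact hK1.2.2.2 (by rw [hKeq]; norm_num)
    · have : K ≤ 8 / 15 := by
        rw [hKeq, Int.cast_one, mul_one]
        exact div_le_div_of_nonneg_left (by norm_num) (by norm_num) (by exact_mod_cast h15)
      linarith [hK1.1]

end Rot

end CfsgLib.FourCore42
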