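import Cfsg.Agent.FourCore42.Core
import Cfsg.Agent.KleinFourBlock.Counting
import Cfsg.Agent.CentFour.Sub

/-!
# Simple groups with a Klein four Sylow subgroup: the rotation and the vanishing theorem

`O(C(t))` has no retraction, commuting with the four-group, onto a nontrivial abelian centraliser
of the four-group.
-/

set_option autoImplicit false
set_option linter.style.haveILetI false

namespace CfsgLib.FourCore42

open Cfsg CfsgLib.KleinFourBlock
open scoped ComplexConjugate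

universe u

variable {G : Type u} [Group G] [Finite G]

/-- The odd core of the centraliser of `t`, inside the group. -/
def coreAt (t : G) : Subgroup G :=
  (pPrimeCore 2 (Subgroup.centralizer ({t} : Set G))).map
    (Subgroup.centralizer ({t} : Set G)).subtype

theorem coreAt_le (t : G) : coreAt t ≤ Subgroup.centralizer ({t} : Set G) :=
  Subgroup.map_subtype_le _

theorem setup_coreAt (P : Sylow 2 G) (hP : IsKleinFour (P : Subgroup G)) {t : G}
    (ht : t ∈ (P : Subgroup G)) (ht1 : t ≠ 1) [Fintype G] : Setup t (coreAt t) := by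
  haveI : Fact (Nat.Prime 2) := ⟨Nat.prime_two⟩
  set C := Subgroup.centralizer ({t} : Set G) with hC
  have hcard : Nat.card (coreAt t) = Nat.card (pPrimeCore 2 C) :=
    Nat.card_congr ((pPrimeCore 2 C).equivMapOfInjective C.subtype C.subtype_injective).toEquiv.symm
  have hodd : Odd (Nat.card (pPrimeCore 2 C)) :=
    Nat.not_even_iff_odd.1 fun he => Constrained.pPrimeCore_not_dvd (even_iff_two_dvd.1 he)
  have hidx : (pPrimeCore 2 C).index = 4 := by
    refine Nat.dvd_antisymm (index_pPrimeCore_dvd_four P hP ht ht1) ?_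
    have h4 : 4 ∣ Nat.card C := by
      rw [← hP.card_four]
      exact Subgroup.card_dvd_of_le (le_centralizer hP ht)
    rw [← (pPrimeCore 2 C).index_mul_card] at h4
    exact (Nat.Coprime.dvd_mul_right (by
      rw [show (4 : ℕ) = 2 ^ 2 by norm_num]
      exact (Nat.prime_two.coprime_iff_not_dvd.2 hodd.not_two_dvd_nat).pow_left 2)).1 h4
  refine ⟨orderOf_eq_two_of_mem hP ht ht1, fun u hu => ?_, hcard ▸ hodd, fun c hc u hu => ?_, ?_⟩
  · exact (Subgroup.mem_centralizer_singleton_iff.1 (coreAt_le t hu) : u * t = t * u).symm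
  · obtain ⟨z, hz, rfl⟩ := Subgroup.mem_map.1 hu
    exact Subgroup.mem_map.2 ⟨⟨c, Subgroup.mem_centralizer_singleton_iff.2 hc.eq⟩ * z *
      (⟨c, Subgroup.mem_centralizer_singleton_iff.2 hc.eq⟩ : C)⁻¹,
      (inferInstance : (pPrimeCore 2 C).Normal).conj_mem z hz _, rfl⟩
  · rw [hcard, ← (pPrimeCore 2 C).index_mul_card, hidx]

/-- A nonabelian simple group with a Klein four Sylow subgroup has no normal 2-complement. -/
theorem no_complement [IsSimpleGroup G] (hna : ∃ a b : G, a * b ≠ b * a) (P : Sylow 2 G)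
    (hP : IsKleinFour (P : Subgroup G)) :
    Nat.card G = 4 * (P : Subgroup G).index ∧ Odd (P : Subgroup G).index ∧
      ¬ ∃ N : Subgroup G, N.Normal ∧ Nat.card N = (P : Subgroup G).index := by
  haveI : Fact (Nat.Prime 2) := ⟨Nat.prime_two⟩
  have hG : Nat.card G = 4 * (P : Subgroup G).index := by
    rw [← hP.card_four, mul_comm, Subgroup.index_mul_card]
  refine ⟨hG, Nat.not_even_iff_odd.1 fun h => P.not_dvd_index (even_iff_two_dvd.1 h), ?_⟩
  rintro ⟨N, hN, hcard⟩
  rcases hN.eq_bot_or_eq_top with rfl | rfl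
  · rw [Subgroup.card_bot] at hcard
    have htop : (P : Subgroup G) = ⊤ := Subgroup.index_eq_one.1 hcard.symm
    obtain ⟨a, b, hab⟩ := hna
    haveI := hP
    exact hab (congrArg Subtype.val (mul_comm_of_exponent_two hP.exponent_two
      (⟨a, htop ▸ Subgroup.mem_top a⟩ : (P : Subgroup G)) ⟨b, htop ▸ Subgroup.mem_top b⟩) :)
  · rw [Subgroup.card_top, hG] at hcard
    have : 0 < (P : Subgroup G).index := Nat.pos_of_ne_zero Subgroup.FiniteIndex.index_ne_zero
    omega

/-- The rotation of the four-group. -/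
theorem exists_rotation [IsSimpleGroup G] (hna : ∃ a b : G, a * b ≠ b * a) (P : Sylow 2 G)
    (hP : IsKleinFour (P : Subgroup G)) {t : G} (ht : t ∈ (P : Subgroup G)) (ht1 : t ≠ 1) :
    ∃ n : G, (∀ x, x ∈ (P : Subgroup G) ↔ n * x * n⁻¹ ∈ (P : Subgroup G)) ∧
      Commute (n ^ 3) t ∧
      ∀ x ∈ (P : Subgroup G), x ≠ 1 → ∃ i : ℕ, x = n ^ i * t * (n ^ i)⁻¹ := by
  obtain ⟨hG, -, hnc⟩ := no_complement hna P hP
  obtain ⟨n, hn, hnC⟩ := SetLike.not_le_iff_exists.1
    (not_commute_of_no_complement hG hnc P hP.card_four)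
  have hmem : ∀ x, x ∈ (P : Subgroup G) ↔ n * x * n⁻¹ ∈ (P : Subgroup G) :=
    Subgroup.mem_normalizer_iff.1 hn
  have hfix : ∀ a ∈ (P : Subgroup G), a ≠ 1 → n * a * n⁻¹ ≠ a := by
    intro a ha ha1 hfa
    refine hnC (Subgroup.mem_centralizer_iff.2 fun w hw => ?_)
    have hna' : n ∈ Subgroup.centralizer ({a} : Set G) :=
      Subgroup.mem_centralizer_singleton_iff.2 (mul_inv_eq_iff_eq_mul.1 hfa)
    have h := normalizer_le_centralizer P hP ha ha1 _ rfl (x := ⟨n, hna'⟩) ?_
    · exact congrArg Subtype.val (Subgroup.mem_centralizer_iff.1 h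
        ⟨w, le_centralizer hP ha hw⟩ hw)
    · rw [Subgroup.mem_normalizer_iff]
      intro c
      exact Subgroup.mem_normalizer_iff.1 hn (c : G)
  set s := n * t * n⁻¹ with hs
  have hsP : s ∈ (P : Subgroup G) := (hmem t).1 ht
  have hs1 : s ≠ 1 := fun h => ht1 (conj_eq_one_iff.1 h)
  have hst : t ≠ s := fun h => hfix t ht ht1 h.symm
  have hcomm : t * s = s * t :=
    (Subgroup.mem_centralizer_singleton_iff.1 (le_centralizer hP ht hsP)).symm
  have hs' : n * s * n⁻¹ = t * s := by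
    rcases eq_of_mem_sylow hP ht hsP ht1 hs1 hst ((hmem s).1 hsP) with h | h | h | h
    · exact absurd (conj_eq_one_iff.1 h) hs1
    · exfalso
      refine hfix (t * s) (mul_mem ht hsP) (fun e => hst (mul_left_cancel
        ((sq_eq_one_of_mem hP ht).trans e.symm))) ?_
      rw [show n * (t * s) * n⁻¹ = (n * t * n⁻¹) * (n * s * n⁻¹) by group, h, ← hs, hcomm]
    · exact absurd h (hfix s hsP hs1)
    · exact h
  have h3 : n * (t * s) * n⁻¹ = t := by
    rw [show n * (t * s) * n⁻¹ = (n * t * n⁻¹) * (n * s * n⁻¹) by group, hs', ← hs, hcomm,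
      ← mul_assoc, sq_eq_one_of_mem hP hsP, one_mul]
  refine ⟨n, hmem, mul_inv_eq_iff_eq_mul.1 ?_, fun x hx hx1 => ?_⟩
  · rw [show n ^ 3 * t * (n ^ 3)⁻¹ = n * (n * (n * t * n⁻¹) * n⁻¹) * n⁻¹ by
      simp [pow_succ, mul_assoc], ← hs, hs', h3]
  · rcases eq_of_mem_sylow hP ht hsP ht1 hs1 hst hx with h | h | h | h
    · exact absurd h hx1
    · exact ⟨0, by simpa using h⟩
    · exact ⟨1, by rw [pow_one]; exact h⟩
    · refine ⟨2, h.trans ?_⟩
      rw [← hs', hs]
      simp [pow_two, mul_assoc]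

/-- The rotation data of a nonabelian simple group with a Klein four Sylow subgroup. -/
theorem exists_rot [IsSimpleGroup G] [Fintype G] (hna : ∃ a b : G, a * b ≠ b * a) (P : Sylow 2 G)
    (hP : IsKleinFour (P : Subgroup G)) {t : G} (ht : t ∈ (P : Subgroup G)) (ht1 : t ≠ 1)
    {U : Subgroup G} (hS : Setup t U) :
    ∃ n : G, Rot t U (U ⊓ Subgroup.centralizer ((P : Subgroup G) : Set G)) n ∧
      Commute (n ^ 3) t ∧
      ∀ x ∈ (P : Subgroup G), x ≠ 1 → ∃ i : ℕ, x = n ^ i * t * (n ^ i)⁻¹ := by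
  classical
  haveI : Fact (Nat.Prime 2) := ⟨Nat.prime_two⟩
  obtain ⟨n, hmem, hn3, horb⟩ := exists_rotation hna P hP ht ht1
  set A := U ⊓ Subgroup.centralizer ((P : Subgroup G) : Set G) with hA
  have hmemA : ∀ g : G, (∀ x, x ∈ (P : Subgroup G) → g⁻¹ * x * g ∈ (P : Subgroup G)) →
      ∀ a ∈ A, g * a * g⁻¹ ∈ A := by
    intro g hg a ha
    obtain ⟨haU, haP⟩ := Subgroup.mem_inf.1 ha
    have hcen : g * a * g⁻¹ ∈ Subgroup.centralizer ((P : Subgroup G) : Set G) := by
      refine Subgroup.mem_centralizer_iff.2 fun x hx => ?_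
      have := Subgroup.mem_centralizer_iff.1 haP _ (hg x hx)
      calc x * (g * a * g⁻¹) = g * (g⁻¹ * x * g * a) * g⁻¹ := by group
        _ = g * a * g⁻¹ * x := by rw [this]; group
    refine Subgroup.mem_inf.2 ⟨hS.mem_of_odd
      (Subgroup.mem_centralizer_iff.1 hcen t ht).symm ?_, hcen⟩
    rw [← MulAut.conj_apply, MulEquiv.orderOf_eq]
    exact hS.odd_orderOf ⟨a, haU⟩
  have hn1 : ∀ x, x ∈ (P : Subgroup G) → n⁻¹ * x * n ∈ (P : Subgroup G) := fun x hx =>
    (hmem _).2 (by rw [show n * (n⁻¹ * x * n) * n⁻¹ = x by group]; exact hx)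
  have hn2 : ∀ x, x ∈ (P : Subgroup G) → n⁻¹⁻¹ * x * n⁻¹ ∈ (P : Subgroup G) := fun x hx => by
    rw [inv_inv]; exact (hmem x).1 hx
  -- elements of `U` are pushed into `A` or have centralisers of 2-part two
  have hsylow : ∀ x ∈ U, 4 ∣ Nat.card (Subgroup.centralizer ({x} : Set G)) →
      ∃ c, Commute c t ∧ c * x * c⁻¹ ∈ A := by
    intro x hx h4
    set C := Subgroup.centralizer ({x} : Set G) with hC
    have htC : t ∈ C := Subgroup.mem_centralizer_singleton_iff.2 (hS.comm x hx).eq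
    obtain ⟨Q, hQ⟩ := (IsPGroup.of_card (p := 2) (n := 1) (G := Subgroup.zpowers (⟨t, htC⟩ : C))
      (by rw [Nat.card_zpowers, Subgroup.orderOf_mk, hS.ht, pow_one])).exists_le_sylow
    obtain ⟨R, hR⟩ := (Q.2.map C.subtype).exists_le_sylow
    obtain ⟨hR4, -⟩ := exists_sylow_conj hP R
    have hQ4 : 4 ∣ Nat.card (Q : Subgroup C) := by
      rw [show (4 : ℕ) = 2 ^ 2 by norm_num]
      exact Q.pow_dvd_card_of_pow_dvd_card (by simpa using h4)
    have hmap : Nat.card ((Q : Subgroup C).map C.subtype) = Nat.card (Q : Subgroup C) :=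
      Nat.card_congr ((Q : Subgroup C).equivMapOfInjective C.subtype C.subtype_injective).toEquiv.symm
    have hQR : (Q : Subgroup C).map C.subtype = (R : Subgroup G) :=
      Subgroup.eq_of_le_of_card_ge hR (by
        rw [hmap, hR4.card_four]; exact Nat.le_of_dvd Nat.card_pos hQ4)
    have htR : t ∈ (R : Subgroup G) := hR ⟨⟨t, htC⟩, hQ (Subgroup.mem_zpowers _), rfl⟩
    obtain ⟨c, hc⟩ := MulAction.exists_smul_eq (Subgroup.centralizer ({t} : Set G))
      (R.subtype (le_centralizer hR4 htR)) (P.subtype (le_centralizer hP ht))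
    have hct : Commute (c : G) t := Subgroup.mem_centralizer_singleton_iff.1 c.2
    refine ⟨c, hct, Subgroup.mem_inf.2 ⟨hS.norm _ hct x hx, Subgroup.mem_centralizer_iff.2 ?_⟩⟩
    intro p hp
    have hp' : (⟨p, le_centralizer hP ht hp⟩ : Subgroup.centralizer ({t} : Set G)) ∈
        ((c • R.subtype (le_centralizer hR4 htR) : Sylow 2 _) : Subgroup _) := by
      rw [hc, Sylow.coe_subtype, Subgroup.mem_subgroupOf]
      exact hp
    obtain ⟨r, hr, hre⟩ := hp'
    have hrR : (r : G) ∈ (R : Subgroup G) := by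
      rwa [SetLike.mem_coe, Sylow.coe_subtype, Subgroup.mem_subgroupOf] at hr
    rw [← hQR] at hrR
    obtain ⟨q, -, hq⟩ := Subgroup.mem_map.1 hrR
    have hrx : (r : G) * x = x * r := by
      rw [← hq]; exact Subgroup.mem_centralizer_singleton_iff.1 q.2
    have hpe : p = (c : G) * r * (c : G)⁻¹ := (congrArg Subtype.val hre).symm
    rw [hpe]
    calc (c : G) * r * (c : G)⁻¹ * ((c : G) * x * (c : G)⁻¹)
        = (c : G) * (r * x) * (c : G)⁻¹ := by group
      _ = _ := by rw [hrx]; group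
  refine ⟨n, ⟨hS, inf_le_left, hmemA n hn1, fun a ha => by
    simpa using hmemA n⁻¹ hn2 a ha, fun x y hx hy hxy => ?_⟩, hn3, horb⟩
  obtain ⟨g, hg⟩ := isConj_iff.1 hxy
  by_cases h4 : 4 ∣ Nat.card (Subgroup.centralizer ({y} : Set G))
  · right
    have h4x : 4 ∣ Nat.card (Subgroup.centralizer ({x} : Set G)) := by
      convert h4 using 1
      refine Nat.card_congr ((MulAut.conj g).toEquiv.subtypeEquiv fun z => ?_)
      show z ∈ _ ↔ g * z * g⁻¹ ∈ _
      rw [Subgroup.mem_centralizer_singleton_iff, Subgroup.mem_centralizer_singleton_iff, ← hg]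
      constructor
      · intro e
        rw [show g * z * g⁻¹ * (g * x * g⁻¹) = g * (z * x) * g⁻¹ by group, e]; group
      · intro e
        rw [show g * z * g⁻¹ * (g * x * g⁻¹) = g * (z * x) * g⁻¹ by group,
          show g * x * g⁻¹ * (g * z * g⁻¹) = g * (x * z) * g⁻¹ by group] at e
        exact mul_left_cancel (mul_right_cancel e)
    obtain ⟨c, hc, ha⟩ := hsylow x hx h4x
    obtain ⟨d, hd, hb⟩ := hsylow y hy h4
    set a := c * x * c⁻¹
    set b := d * y * d⁻¹
    -- conjugate `a` to `b` by an element normalising `P`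
    set g' := d * g * c⁻¹
    have hg' : g' * a * g'⁻¹ = b := by
      simp only [g', a, b, ← hg]; group
    set B := Subgroup.centralizer ({b} : Set G) with hB
    have hPB : (P : Subgroup G) ≤ B := fun p hp => Subgroup.mem_centralizer_singleton_iff.2
      (Subgroup.mem_centralizer_iff.1 (Subgroup.mem_inf.1 hb).2 p hp)
    have hP'B : ((g' • P : Sylow 2 G) : Subgroup G) ≤ B := by
      rintro z ⟨p, hp, rfl⟩
      refine Subgroup.mem_centralizer_singleton_iff.2 ?_
      have := Subgroup.mem_centralizer_iff.1 (Subgroup.mem_inf.1 ha).2 p hp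
      show g' * p * g'⁻¹ * b = b * (g' * p * g'⁻¹)
      rw [← hg', show g' * p * g'⁻¹ * (g' * a * g'⁻¹) = g' * (p * a) * g'⁻¹ by group, this]
      group
    obtain ⟨k, hk⟩ := MulAction.exists_smul_eq B ((g' • P : Sylow 2 G).subtype hP'B) (P.subtype hPB)
    set m := (k : G) * g' with hm
    have hmP : ∀ p ∈ (P : Subgroup G), m * p * m⁻¹ ∈ (P : Subgroup G) := fun p hp => by
      have h' : k * (⟨g' * p * g'⁻¹, hP'B ⟨p, hp, rfl⟩⟩ : B) * k⁻¹ ∈
          ((k • (g' • P : Sylow 2 G).subtype hP'B : Sylow 2 B) : Subgroup B) :=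
        ⟨⟨g' * p * g'⁻¹, hP'B ⟨p, hp, rfl⟩⟩, by
          rw [SetLike.mem_coe, Sylow.coe_subtype, Subgroup.mem_subgroupOf]
          exact ⟨p, hp, rfl⟩, rfl⟩
      rw [hk, Sylow.coe_subtype, Subgroup.mem_subgroupOf] at h'
      convert h' using 1
      simp [hm, mul_assoc]
    have hma : m * a * m⁻¹ = b := by
      have hkb : (k : G) * b = b * k := Subgroup.mem_centralizer_singleton_iff.1 k.2
      rw [hm, show (k : G) * g' * a * ((k : G) * g')⁻¹ = (k : G) * (g' * a * g'⁻¹) * (k : G)⁻¹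
        by group, hg', hkb, mul_inv_cancel_right]
    obtain ⟨i, hi⟩ := horb _ (hmP t ht) fun e => ht1 (conj_eq_one_iff.1 e)
    set c' := (n ^ i)⁻¹ * m with hc'
    have hc't : Commute c' t := by
      refine mul_inv_eq_iff_eq_mul.1 ?_
      rw [hc', show (n ^ i)⁻¹ * m * t * ((n ^ i)⁻¹ * m)⁻¹ = (n ^ i)⁻¹ * (m * t * m⁻¹) * n ^ i
        by group, hi]
      group
    have hpowP : ∀ (j : ℕ), ∀ p ∈ (P : Subgroup G), (n ^ j)⁻¹ * p * n ^ j ∈ (P : Subgroup G) := by
      intro j
      induction j with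
      | zero => intro p hp; simpa using hp
      | succ j ih =>
        intro p hp
        rw [show (n ^ (j + 1))⁻¹ * p * n ^ (j + 1) = n⁻¹ * ((n ^ j)⁻¹ * p * n ^ j) * n by
          rw [pow_succ]; group]
        exact hn1 _ (ih p hp)
    have hc'a : c' * a * c'⁻¹ ∈ A := by
      rw [hc', show (n ^ i)⁻¹ * m * a * ((n ^ i)⁻¹ * m)⁻¹ = (n ^ i)⁻¹ * (m * a * m⁻¹) * n ^ i
        by group, hma]
      have := hmemA (n ^ i)⁻¹ (fun p hp => by
        rw [inv_inv]
        clear hi hc' hc't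
        induction i with
        | zero => simpa using hp
        | succ i ih =>
          rw [show n ^ (i + 1) * p * (n ^ (i + 1))⁻¹ = n * (n ^ i * p * (n ^ i)⁻¹) * n⁻¹ by
            rw [pow_succ']; group]
          exact (hmem _).1 ih) b hb
      simpa using this
    refine ⟨c' * c, d, c' * a * c'⁻¹, hc't.mul_left hc, hd, hc'a, by simp only [a]; group, i, ?_⟩
    show b = _
    rw [← hma, hc']
    group
  · left
    set B := Subgroup.centralizer ({y} : Set G) with hB
    have hone : ∀ (z : G) (hz : z ∈ B), orderOf z = 2 → ∃ Q : Sylow 2 B,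
        (Q : Subgroup B) = Subgroup.zpowers ⟨z, hz⟩ := by
      intro z hz ho
      obtain ⟨Q, hQ⟩ := (IsPGroup.of_card (p := 2) (n := 1) (G := Subgroup.zpowers (⟨z, hz⟩ : B))
        (by rw [Nat.card_zpowers, Subgroup.orderOf_mk, ho, pow_one])).exists_le_sylow
      refine ⟨Q, (Subgroup.eq_of_le_of_card_ge hQ ?_).symm⟩
      rw [Nat.card_zpowers, Subgroup.orderOf_mk, ho]
      obtain ⟨j, hj⟩ := Q.2.exists_card_eq
      have : j ≤ 1 := by
        by_contra hj'
        refine h4 (Dvd.dvd.trans ?_ (Subgroup.card_subgroup_dvd_card (Q : Subgroup B)))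
        rw [hj, show (4 : ℕ) = 2 ^ 2 by norm_num]
        exact pow_dvd_pow 2 (by omega)
      rw [hj]
      interval_cases j <;> norm_num
    have htB : t ∈ B := Subgroup.mem_centralizer_singleton_iff.2 (hS.comm y hy).eq
    have ht'B : g * t * g⁻¹ ∈ B := by
      refine Subgroup.mem_centralizer_singleton_iff.2 ?_
      rw [← hg, show g * t * g⁻¹ * (g * x * g⁻¹) = g * (t * x) * g⁻¹ by group, (hS.comm x hx).eq]
      group
    obtain ⟨Q₁, hQ₁⟩ := hone _ ht'B (by rw [← MulAut.conj_apply, MulEquiv.orderOf_eq]; exact hS.ht)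
    obtain ⟨Q₂, hQ₂⟩ := hone t htB hS.ht
    obtain ⟨k, hk⟩ := MulAction.exists_smul_eq B Q₁ Q₂
    have hm : k * ⟨g * t * g⁻¹, ht'B⟩ * k⁻¹ ∈ ((k • Q₁ : Sylow 2 B) : Subgroup B) :=
      ⟨_, by rw [SetLike.mem_coe, hQ₁]; exact Subgroup.mem_zpowers _, rfl⟩
    rw [hk, hQ₂] at hm
    obtain ⟨j, hj⟩ := Subgroup.mem_zpowers_iff.1 hm
    have hj' : t ^ j = (k : G) * (g * t * g⁻¹) * (k : G)⁻¹ := by
      have := congrArg Subtype.val hj
      simpa using this
    have hkgt : ((k : G) * g) * t * ((k : G) * g)⁻¹ = t := by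
      rw [show ((k : G) * g) * t * ((k : G) * g)⁻¹ = (k : G) * (g * t * g⁻¹) * (k : G)⁻¹ by group,
        ← hj']
      rcases Int.even_or_odd j with ⟨l, rfl⟩ | ⟨l, rfl⟩
      · exfalso
        rw [← two_mul, zpow_mul, zpow_two, hS.tt, one_zpow] at hj'
        exact ht1 (conj_eq_one_iff.1 (conj_eq_one_iff.1 hj'.symm))
      · rw [zpow_add, zpow_mul, zpow_two, hS.tt, one_zpow, one_mul, zpow_one]
    refine ⟨(k : G) * g, mul_inv_eq_iff_eq_mul.1 hkgt, ?_⟩
    rw [show (k : G) * g * x * ((k : G) * g)⁻¹ = (k : G) * (g * x * g⁻¹) * (k : G)⁻¹ by group, hg,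
      show (k : G) * y = y * k from Subgroup.mem_centralizer_singleton_iff.1 k.2,
      mul_inv_cancel_right]

/-- **Vanishing.**  If `U` retracts onto the abelian subgroup `U ∩ C(P)` by a homomorphism
commuting with `P`, that subgroup is trivial. -/
theorem eq_bot_of_retraction [IsSimpleGroup G] [Fintype G]
    (hna : ∃ a b : G, a * b ≠ b * a) (P : Sylow 2 G) (hP : IsKleinFour (P : Subgroup G)) {t : G}
    (ht : t ∈ (P : Subgroup G)) (ht1 : t ≠ 1) {U A : Subgroup G} (hS : Setup t U)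
    (hA : A = U ⊓ Subgroup.centralizer ((P : Subgroup G) : Set G))
    (hAcomm : ∀ a ∈ A, ∀ b ∈ A, a * b = b * a) (r : U →* A)
    (hfix : ∀ (a : G) (haU : a ∈ U) (ha : a ∈ A), r ⟨a, haU⟩ = ⟨a, ha⟩)
    (hequiv : ∀ (p : G) (hp : p ∈ (P : Subgroup G)) (hpt : Commute p t) (v : U),
      r ⟨p * v * p⁻¹, hS.norm p hpt v v.2⟩ = r v) :
    A = ⊥ := by
  classical
  haveI : Fact (Nat.Prime 2) := ⟨Nat.prime_two⟩
  by_contra hne
  obtain ⟨n, hR, hn3, horb⟩ := exists_rot hna P hP ht ht1 hS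
  rw [← hA] at hR
  have hAP : ∀ a ∈ A, ∀ x ∈ (P : Subgroup G), x * a = a * x := fun a ha x hx =>
    Subgroup.mem_centralizer_iff.1 (Subgroup.mem_inf.1 (hA ▸ ha : a ∈ U ⊓ _)).2 x hx
  obtain ⟨hG, hodd, hnc⟩ := no_complement hna P hP
  have hone := isConj_of_no_complement hodd hG hnc P
  haveI := Fintype.ofFinite U
  haveI := Fintype.ofFinite A
  haveI : IsMulCommutative A := ⟨⟨fun a b => Subtype.ext (hAcomm a a.2 b b.2)⟩⟩
  have hcomA : commutator A = ⊥ := (commutator_eq_bot_iff A).2 inferInstance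
  haveI : Nontrivial A := (Subgroup.nontrivial_iff_ne_bot A).2 hne
  obtain ⟨a₀, ha₀⟩ := exists_ne (1 : A)
  obtain ⟨β, hβ⟩ := Chars.exists_linChar_ne_one (g := a₀) (by
    rw [hcomA, Subgroup.mem_bot]; exact ha₀)
  let φ : U →* ℂˣ := β.comp r
  -- conjugation of `A` by powers of `n`
  let conjA : ℕ → (A →* A) := fun i =>
    { toFun := fun a => ⟨n ^ i * a * (n ^ i)⁻¹, hR.pow_mem a.2 i⟩
      map_one' := Subtype.ext (by simp)
      map_mul' := fun a b => Subtype.ext (by simp [mul_assoc]) }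
  let θ : Fin 3 → (U →* ℂˣ) := fun i => (β.comp (conjA i)).comp r
  have hinvP : ∀ (γ : A →* ℂˣ), hS.Invariant (γ.comp r) := by
    intro γ c hc v
    obtain ⟨⟨u, p⟩, hup⟩ : ∃ q : U × (P : Subgroup G), (q.1 : G) * q.2 = c := by
      let f : U × (P : Subgroup G) → Subgroup.centralizer ({t} : Set G) := fun q =>
        ⟨(q.1 : G) * q.2, Subgroup.mem_centralizer_singleton_iff.2
          ((hS.comm _ q.1.2).symm.mul_left
            (Subgroup.mem_centralizer_singleton_iff.1 (le_centralizer hP ht q.2.2))).eq⟩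
      have hinj : Function.Injective f := by
        rintro ⟨u₁, p₁⟩ ⟨u₂, p₂⟩ e
        have e' : (u₁ : G) * p₁ = u₂ * p₂ := congrArg Subtype.val e
        have hu : (u₂ : G)⁻¹ * u₁ = p₂ * (p₁ : G)⁻¹ := by
          rw [inv_mul_eq_iff_eq_mul, ← mul_assoc, eq_mul_inv_iff_mul_eq]; exact e'
        have h1 : (u₂ : G)⁻¹ * u₁ = 1 := by
          have hm2 : (u₂ : G)⁻¹ * u₁ ∈ (P : Subgroup G) := hu ▸ mul_mem p₂.2 (inv_mem p₁.2)
          have ho := hS.odd_orderOf (u₂⁻¹ * u₁)
          rw [Subgroup.coe_mul, Subgroup.coe_inv] at ho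
          by_contra h1
          rw [orderOf_eq_two_of_mem hP hm2 h1] at ho
          exact absurd ho (by decide)
        obtain rfl : u₁ = u₂ := Subtype.ext (inv_mul_eq_one.1 h1).symm
        exact Prod.ext rfl (Subtype.ext (mul_left_cancel e'))
      have hbij : Function.Bijective f := (Nat.bijective_iff_injective_and_card _).2 ⟨hinj, by
        rw [Nat.card_prod, hS.card, hP.card_four, mul_comm]⟩
      obtain ⟨q, hq⟩ := hbij.2 ⟨c, Subgroup.mem_centralizer_singleton_iff.2 hc.eq⟩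
      exact ⟨q, congrArg Subtype.val hq⟩
    have hpt : Commute (p : G) t :=
      Subgroup.mem_centralizer_singleton_iff.1 (le_centralizer hP ht p.2)
    have heq : (⟨c * v * c⁻¹, hS.norm c hc v v.2⟩ : U) =
        u * ⟨(p : G) * v * (p : G)⁻¹, hS.norm _ hpt v v.2⟩ * u⁻¹ :=
      Subtype.ext (by
        show c * (v : G) * c⁻¹ = (u : G) * ((p : G) * v * (p : G)⁻¹) * (u : G)⁻¹
        rw [← hup]; group)
    simp only [MonoidHom.comp_apply]
    rw [heq, map_mul, map_mul, map_mul, map_mul, hequiv _ p.2 hpt v, map_inv, map_inv,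
      mul_right_comm, mul_inv_cancel, one_mul]
  have hθA : ∀ (i : Fin 3) (a : G) (ha : a ∈ A),
      θ i ⟨a, hR.le ha⟩ = β ⟨n ^ (i : ℕ) * a * (n ^ (i : ℕ))⁻¹, hR.pow_mem ha i⟩ := by
    intro i a ha
    show β (conjA i (r ⟨a, _⟩)) = _
    rw [hfix a _ ha]
    rfl
  have h3 : ∀ (a : G) (ha : a ∈ A),
      β ⟨n ^ 3 * a * (n ^ 3)⁻¹, hR.pow_mem ha 3⟩ = β ⟨a, ha⟩ := by
    intro a ha
    have := hinvP β (n ^ 3) hn3 ⟨a, hR.le ha⟩
    simp only [MonoidHom.comp_apply] at this
    rwa [hfix a _ ha, hfix _ _ (hR.pow_mem ha 3)] at this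
  have hrot : ∀ (i : Fin 3) (a : G) (ha : a ∈ A),
      θ i ⟨n * a * n⁻¹, hR.le (hR.mem a ha)⟩ = θ (i + 1) ⟨a, hR.le ha⟩ := by
    intro i a ha
    rw [hθA i _ (hR.mem a ha), hθA (i + 1) a ha]
    fin_cases i
    · exact congrArg β (Subtype.ext (by simp))
    · refine congrArg β (Subtype.ext ?_)
      show n ^ 1 * (n * a * n⁻¹) * (n ^ 1)⁻¹ = n ^ 2 * a * (n ^ 2)⁻¹
      group
    · refine Eq.trans (congrArg β (Subtype.ext ?_)) ((h3 a ha).trans (congrArg β (Subtype.ext ?_)))
      · show n ^ 2 * (n * a * n⁻¹) * (n ^ 2)⁻¹ = n ^ 3 * a * (n ^ 3)⁻¹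
        group
      · show a = n ^ 0 * a * (n ^ 0)⁻¹
        simp
  have hmod : ∀ (χ : IrrCharacter G) (e : ℤ), (χ : G → ℂ) t = e →
      (4 : ℤ) ∣ (charDegree (χ : G → ℂ) : ℤ) - e := fun χ e he => by
    have := CentFour.four_dvd_degree_sub hP hone hS.ht χ he
    omega
  have hlin : ∀ χ : IrrCharacter G, charDegree (χ : G → ℂ) = 1 → χ = Chars.oneChar G := by
    intro χ hχ
    obtain ⟨l, rfl⟩ := Chars.exists_linChar_eq χ ((Chars.charDegree_eq_one_iff χ).1 hχ)
    refine (Chars.linChar_eq_oneChar_iff l).2 ?_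
    rcases l.normal_ker.eq_bot_or_eq_top with hb | hb
    · obtain ⟨a, b, hab⟩ := hna
      exact absurd ((MonoidHom.ker_eq_bot_iff l).1 hb (by rw [map_mul, map_mul, mul_comm])) hab
    · exact MonoidHom.ext fun g => (MonoidHom.mem_ker).1 (hb ▸ Subgroup.mem_top g)
  have hne3 : ∀ χ ∈ hS.support 1, charDegree (χ : G → ℂ) ≠ 3 := by
    intro χ hχ h3deg
    have hval := Rot.apply_of_mem_principal hS hχ
    have hm := hmod χ _ (by simpa using hval 1)
    have hm1 : hS.lcoef χ 1 = -1 := by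
      rcases hS.lcoef_sq hχ with e | e <;> rw [e, h3deg] at hm <;> omega
    have hPA : ∀ (x : (P : Subgroup G)) (a : A), x ≠ 1 → (χ : G → ℂ) ((a : G) * x) = -1 := by
      intro x a hx
      obtain ⟨i, hi⟩ := horb x x.2 fun e => hx (Subtype.ext e)
      have hmem : (n ^ i)⁻¹ * a * n ^ i ∈ A := by
        clear hi
        induction i with
        | zero => simpa using a.2
        | succ i ih =>
          rw [show (n ^ (i + 1))⁻¹ * (a : G) * n ^ (i + 1) = n⁻¹ * ((n ^ i)⁻¹ * a * n ^ i) * n by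
            rw [pow_succ]; group]
          exact hR.mem' _ ih
      have := hval ⟨_, hR.le hmem⟩
      rw [hm1] at this
      rw [← hAP a a.2 x x.2, hi,
        show n ^ i * t * (n ^ i)⁻¹ * a = n ^ i * (t * ((n ^ i)⁻¹ * a * n ^ i)) * (n ^ i)⁻¹ by group,
        Chars.isClassFunction_coe χ _ (n ^ i)]
      simpa using this
    let j : A × (P : Subgroup G) →* G := MonoidHom.noncommCoprod A.subtype (P : Subgroup G).subtype
      fun a x => (hAP a a.2 x x.2).symm
    haveI := Fintype.ofFinite (P : Subgroup G)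
    set g : A → ℂ := fun a => ((χ : G → ℂ) a - 3) / 4 with hg
    have hgcl : IsClassFunction A g := fun a b => by rw [mul_comm' b a, mul_inv_cancel_right]
    have hcoef : ∀ ψ : IrrCharacter A, ∃ m : ℕ, classInner g (ψ : A → ℂ) = m := by
      intro ψ
      obtain ⟨m, hm'⟩ := Chars.exists_nat_classInner' (Chars.isCharacter_comp (Chars.isCharacter_coe χ) j)
        (Chars.isCharacter_comp (Chars.isCharacter_coe ψ) (MonoidHom.fst A (P : Subgroup G)))
      refine ⟨m, ?_⟩
      rw [← hm']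
      simp only [classInner, Nat.card_prod, hP.card_four, Fintype.sum_prod_type, Finset.mul_sum]
      refine Finset.sum_congr rfl fun a _ => ?_
      rw [← Finset.add_sum_erase _ _ (Finset.mem_univ (1 : (P : Subgroup G))),
        Finset.sum_congr rfl (g := fun _ => ((Nat.card A * 4 : ℕ) : ℂ)⁻¹ * (-1 * conj ((ψ : A → ℂ) a)))
          fun x hx => by
            show ((Nat.card A * 4 : ℕ) : ℂ)⁻¹ *
              ((χ : G → ℂ) ((a : G) * x) * conj ((ψ : A → ℂ) a)) = _
            rw [hPA x a (Finset.mem_erase.1 hx).1],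
        Finset.sum_const, Finset.card_erase_of_mem (Finset.mem_univ _), Finset.card_univ,
        ← Nat.card_eq_fintype_card, hP.card_four]
      simp only [Function.comp_apply, MonoidHom.coe_fst, show j (a, 1) = (a : G) from mul_one _,
        hg]
      push_cast
      simp
      ring
    have hg1 : g 1 = 0 := by
      simp only [hg, OneMemClass.coe_one]
      rw [← Chars.coe_charDegree, h3deg]
      norm_num
    have hzero : ∀ ψ : IrrCharacter A, classInner g (ψ : A → ℂ) = 0 := by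
      choose m hm' using hcoef
      have hsum := Chars.eq_sum_classInner_mul hgcl 1
      simp only [hg1, hm', Chars.map_one_eq_one_of_isMulCommutative, mul_one] at hsum
      intro ψ
      rw [hm' ψ]
      have h0 : ∑ φ, m φ = 0 := by exact_mod_cast hsum.symm
      rw [(Finset.sum_eq_zero_iff.1 h0) ψ (Finset.mem_univ _), Nat.cast_zero]
    have hga : g a₀ = 0 := by
      rw [Chars.eq_sum_classInner_mul hgcl a₀]
      simp [hzero]
    have hker : (a₀ : G) ∈ Chars.charKer (χ : G → ℂ) := by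
      rw [Chars.mem_charKer_iff (Chars.isCharacter_coe χ), ← Chars.coe_charDegree, h3deg]
      simp only [hg, div_eq_zero_iff, sub_eq_zero] at hga
      simpa using hga.resolve_right (by norm_num)
    rcases (Chars.charKer_normal (Chars.isClassFunction_coe χ)).eq_bot_or_eq_top with hb | hb
    · rw [hb, Subgroup.mem_bot] at hker
      exact ha₀ (Subtype.ext hker)
    · have := Chars.map_eq_map_one_of_mem_charKer (f := (χ : G → ℂ)) (g := t)
        (by rw [hb]; trivial)
      rw [show (χ : G → ℂ) t = (hS.lcoef χ 1 : ℂ) by simpa using hval 1, hm1,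
        ← Chars.coe_charDegree, h3deg] at this
      norm_num at this
  refine hR.false_of_rotated hmod hlin hne3 θ (fun i => hinvP _) hrot ⟨a₀, a₀.2, ?_⟩
  rw [hθA 0 _ a₀.2]
  intro e
  refine hβ (Eq.trans (congrArg β (Subtype.ext ?_)) e)
  simp

/-- An abelian odd core of an involution centraliser meets the centraliser of the four-group
trivially. -/
theorem inf_centralizer_eq_bot_of_comm [IsSimpleGroup G] [Fintype G]
    (hna : ∃ a b : G, a * b ≠ b * a) (P : Sylow 2 G) (hP : IsKleinFour (P : Subgroup G)) {t : G}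
    (ht : t ∈ (P : Subgroup G)) (ht1 : t ≠ 1) {U : Subgroup G} (hS : Setup t U)
    (hU : ∀ a ∈ U, ∀ b ∈ U, a * b = b * a) :
    U ⊓ Subgroup.centralizer ((P : Subgroup G) : Set G) = ⊥ := by
  classical
  haveI : IsMulCommutative U := ⟨⟨fun a b => Subtype.ext (hU a a.2 b b.2)⟩⟩
  obtain ⟨n, hn, -, horb⟩ := exists_rotation hna P hP ht ht1
  set s := n * t * n⁻¹ with hs
  have hsP : s ∈ (P : Subgroup G) := (hn t).1 ht
  have hs1 : s ≠ 1 := fun h => ht1 (conj_eq_one_iff.1 h)
  have hst : Commute s t := Subgroup.mem_centralizer_singleton_iff.1 (le_centralizer hP ht hsP)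
  have hss := sq_eq_one_of_mem hP hsP
  have hts : t ≠ s := by
    intro e
    obtain ⟨i, hi⟩ : ∃ x, x ∈ (P : Subgroup G) ∧ x ≠ 1 ∧ x ≠ t := by
      haveI := hP
      by_contra h
      push Not at h
      have : Nat.card (P : Subgroup G) ≤ ({1, t} : Finset G).card := by
        rw [← Nat.card_eq_finsetCard]
        refine Nat.card_le_card_of_injective (fun x => (⟨x.1, ?_⟩ : ({1, t} : Finset G)))
          fun a b e => Subtype.ext (congrArg Subtype.val e :)
        by_cases hx : (x : G) = 1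
        · simp [hx]
        · simp [h x x.2 hx]
      rw [hP.card_four] at this
      have := Finset.card_le_two (a := (1 : G)) (b := t)
      omega
    obtain ⟨k, hk⟩ := horb i hi.1 hi.2.1
    refine hi.2.2 (hk.trans ?_)
    have hnt : n * t = t * n := mul_inv_eq_iff_eq_mul.1 e.symm
    rw [(show Commute n t from hnt).pow_left k |>.eq, mul_inv_cancel_right]
  let conjs : U →* U :=
    { toFun := fun v => ⟨s * v * s⁻¹, hS.norm s hst v v.2⟩
      map_one' := Subtype.ext (by simp)
      map_mul' := fun a b => Subtype.ext (by simp [mul_assoc]) }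
  obtain ⟨m, hm⟩ := hS.odd
  let f : U →* U :=
    { toFun := fun v => (v * conjs v) ^ (m + 1)
      map_one' := by simp
      map_mul' := fun a b => by
        rw [map_mul, ← (show Commute (a * conjs a) (b * conjs b) from mul_comm' _ _).mul_pow]
        congr 1
        rw [mul_assoc, mul_assoc, ← mul_assoc b, mul_comm' b (conjs a), mul_assoc] }
  have hfs : ∀ v, conjs (f v) = f v := fun v => by
    show conjs ((v * conjs v) ^ (m + 1)) = _
    have : conjs (conjs v) = v := Subtype.ext (by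
      show s * (s * v * s⁻¹) * s⁻¹ = v
      rw [inv_eq_of_mul_eq_one_right hss, show s * (s * (v : G) * s) * s = (s * s) * v * (s * s)
        by group, hss, one_mul, mul_one])
    rw [map_pow, map_mul, this, mul_comm' (conjs v) v]
    rfl
  have hfA : ∀ v, (f v : G) ∈ U ⊓ Subgroup.centralizer ((P : Subgroup G) : Set G) := by
    intro v
    refine Subgroup.mem_inf.2 ⟨(f v).2, Subgroup.mem_centralizer_iff.2 fun x hx => ?_⟩
    have hct : Commute t (f v : G) := hS.comm _ (f v).2
    have hcs : Commute s (f v : G) := mul_inv_eq_iff_eq_mul.1 (congrArg Subtype.val (hfs v))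
    rcases eq_of_mem_sylow hP ht hsP ht1 hs1 hts hx with rfl | rfl | rfl | rfl
    · simp
    · exact hct.eq
    · exact hcs.eq
    · exact (hct.mul_left hcs).eq
  refine eq_bot_of_retraction hna P hP ht ht1 hS rfl
    (fun a ha b hb => hU a (Subgroup.mem_inf.1 ha).1 b (Subgroup.mem_inf.1 hb).1)
    ((U.subtype.comp f).codRestrict _ hfA) (fun a _ ha => ?_) (fun p hp hpt v => ?_)
  · refine Subtype.ext ?_
    show ((f ⟨a, _⟩ : U) : G) = a
    have hfix : conjs ⟨a, (Subgroup.mem_inf.1 ha).1⟩ = ⟨a, (Subgroup.mem_inf.1 ha).1⟩ :=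
      Subtype.ext (mul_inv_eq_iff_eq_mul.2
        (Subgroup.mem_centralizer_iff.1 (Subgroup.mem_inf.1 ha).2 s hsP))
    show (((⟨a, _⟩ : U) * conjs ⟨a, _⟩) ^ (m + 1) : U).1 = a
    rw [hfix, ← pow_two, ← pow_mul, show 2 * (m + 1) = Nat.card U + 1 by omega, pow_succ,
      pow_card_eq_one', one_mul]
  · refine Subtype.ext ?_
    show ((f ⟨p * v * p⁻¹, _⟩ : U) : G) = (f v : G)
    have hmove : ((f ⟨p * v * p⁻¹, hS.norm p hpt v v.2⟩ : U) : G) = p * (f v : G) * p⁻¹ := by
      show ((((⟨p * v * p⁻¹, _⟩ : U) * conjs ⟨p * v * p⁻¹, _⟩) ^ (m + 1) : U) : G) =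
        p * (((v * conjs v) ^ (m + 1) : U) : G) * p⁻¹
      rw [SubmonoidClass.coe_pow, SubmonoidClass.coe_pow, ← conj_pow]
      congr 1
      show p * v * p⁻¹ * (s * (p * v * p⁻¹) * s⁻¹) = p * (v * (s * v * s⁻¹)) * p⁻¹
      have hsp : s * p = p * s :=
        (Subgroup.mem_centralizer_singleton_iff.1 (le_centralizer hP hsP hp)).symm
      rw [show s * (p * (v : G) * p⁻¹) * s⁻¹ = (s * p) * v * (s * p)⁻¹ by group, hsp]
      group
    rw [hmove, Subgroup.mem_centralizer_iff.1 (Subgroup.mem_inf.1 (hfA v)).2 p hp,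
      mul_inv_cancel_right]

end CfsgLib.FourCore42
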