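import Cfsg.Agent.FourCore42.Setup

/-!
# Linear characters of the core and their columns

A family of linear characters of `U` whose sum is invariant under fusion cuts out the characters
`χ` having a coefficient on it; an invariant linear character has the same weighted column sum as
the trivial one.
-/

set_option autoImplicit false
set_option linter.style.haveILetI false

namespace CfsgLib.FourCore42

open Cfsg
open scoped ComplexConjugate

universe u

variable {G : Type u} [Group G] [Fintype G]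

namespace Setup

variable {t : G} {U : Subgroup G} [Fintype U]

/-- The coefficient on a linear character. -/
noncomputable def lcoef (h : Setup t U) (χ : IrrCharacter G) (θ : U →* ℂˣ) : ℤ :=
  h.coef χ (Chars.linChar θ)

omit [Fintype G] [Fintype U] in
theorem conj_lin [Finite U] (θ : U →* ℂˣ) (v : U) : conj ((θ v : ℂˣ) : ℂ) = (θ v⁻¹ : ℂˣ) :=
  Chars.conj_eq_map_inv (Chars.isCharacter_coe (Chars.linChar θ)) v

omit [Fintype G] [Fintype U] in
theorem isIntegral_lin [Finite U] (θ : U →* ℂˣ) (v : U) : IsIntegral ℤ ((θ v : ℂˣ) : ℂ) :=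
  Chars.isIntegral_apply (Chars.isCharacter_coe (Chars.linChar θ)) v

omit [Fintype G] [Fintype U] in
theorem odd_orderOf (h : Setup t U) (y : U) : Odd (orderOf (y : G)) := by
  rw [Subgroup.orderOf_coe]
  exact h.odd.of_dvd_nat (orderOf_dvd_natCard y)

/-- `∑ χ (t v) θ (v⁻¹)` is `|U|` times the coefficient. -/
theorem sum_col_lin (h : Setup t U) (χ : IrrCharacter G) (θ : U →* ℂˣ) :
    ∑ v : U, colFun t U (χ : G → ℂ) v * ((θ v⁻¹ : ℂˣ) : ℂ) =
      (Nat.card U : ℂ) * (h.lcoef χ θ : ℂ) := by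
  rw [lcoef, ← h.coef_spec, dcol, classInner, ← mul_assoc, mul_inv_cancel₀ Chars.natCard_ne_zero,
    one_mul]
  exact Finset.sum_congr rfl fun v _ => by rw [Chars.linChar_apply, conj_lin]

omit [Fintype G] in
theorem classInner_lin (θ φ : U →* ℂˣ) [Decidable (θ = φ)] :
    classInner (fun v : U => ((θ v : ℂˣ) : ℂ)) (fun v : U => ((φ v : ℂˣ) : ℂ)) =
      if θ = φ then 1 else 0 := by
  classical
  show classInner (Chars.linChar θ : U → ℂ) (Chars.linChar φ : U → ℂ) = _
  rw [Chars.classInner_irr]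
  exact if_congr Chars.linChar_injective.eq_iff rfl rfl

omit [Fintype U] in
theorem isClassFunction_colFun (h : Setup t U) (χ : IrrCharacter G) :
    IsClassFunction U (colFun t U (χ : G → ℂ)) := by
  intro v x
  show (χ : G → ℂ) (t * ((x : G) * v * (x : G)⁻¹)) = (χ : G → ℂ) (t * v)
  rw [show t * ((x : G) * v * (x : G)⁻¹) = (x : G) * (t * v) * (x : G)⁻¹ by
    rw [← mul_assoc, ← mul_assoc, (h.comm _ x.2).eq, mul_assoc (x : G) t v]]
  exact Chars.isClassFunction_coe χ _ _

open scoped Classical in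
/-- The extension to `G` of a fusion invariant function on `U`. -/
noncomputable def extendFused (U : Subgroup G) (Φ : U → ℂ) (g : G) : ℂ :=
  if hg : ∃ y : U, IsConj g y then Φ hg.choose else 0

theorem extendFused_coe {Φ : U → ℂ} (hΦ : ∀ x y : U, IsConj (x : G) y → Φ x = Φ y) (x : U) :
    extendFused U Φ (x : G) = Φ x := by
  rw [extendFused, dif_pos ⟨x, IsConj.refl _⟩]
  exact (hΦ _ _ (Exists.choose_spec (⟨x, IsConj.refl _⟩ : ∃ y : U, IsConj (x : G) y))).symm

theorem isClassFunction_extendFused {Φ : U → ℂ} (hΦ : ∀ x y : U, IsConj (x : G) y → Φ x = Φ y) :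
    IsClassFunction G (extendFused U Φ) := by
  intro g x
  have hc : IsConj g (x * g * x⁻¹) := isConj_iff.2 ⟨x, rfl⟩
  by_cases hg : ∃ y : U, IsConj g y
  · obtain ⟨y, hy⟩ := id hg
    rw [extendFused, extendFused, dif_pos ⟨y, hc.symm.trans hy⟩, dif_pos hg]
    exact hΦ _ _ ((hc.symm.trans hy |> fun _ => (Exists.choose_spec
      (⟨y, hc.symm.trans hy⟩ : ∃ y : U, IsConj (x * g * x⁻¹) y)).symm.trans
      (hc.symm.trans hg.choose_spec)))
  · rw [extendFused, extendFused, dif_neg hg, dif_neg]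
    rintro ⟨y, hy⟩
    exact hg ⟨y, hc.trans hy⟩

theorem isIntegral_extendFused {Φ : U → ℂ} (hΦ : ∀ x : U, IsIntegral ℤ (Φ x)) (g : G) :
    IsIntegral ℤ (extendFused U Φ g) := by
  rw [extendFused]
  split_ifs
  · exact hΦ _
  · exact isIntegral_zero

/-- **Separation.**  A family of linear characters with fusion invariant sum cuts out its
characters modulo two, hence exactly. -/
theorem apply_eq_sum (h : Setup t U) (S : Finset (U →* ℂˣ))
    (hfus : ∀ x y : U, IsConj (x : G) y →
      ∑ θ ∈ S, ((θ x : ℂˣ) : ℂ) = ∑ θ ∈ S, ((θ y : ℂˣ) : ℂ))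
    (χ : IrrCharacter G) {θ₀ : U →* ℂˣ} (h₀ : θ₀ ∈ S) (hne : h.lcoef χ θ₀ ≠ 0) (v : U) :
    (χ : G → ℂ) (t * (v : G)) = ∑ θ ∈ S, (h.lcoef χ θ : ℂ) * ((θ v : ℂˣ) : ℂ) := by
  classical
  set N : ℂ := (Nat.card U : ℂ) with hN
  set Φ : U → ℂ := fun x => ∑ θ ∈ S, ((θ x⁻¹ : ℂˣ) : ℂ) with hΦdef
  have hΦ : ∀ x y : U, IsConj (x : G) y → Φ x = Φ y := fun x y hxy => by
    obtain ⟨c, hc⟩ := isConj_iff.1 hxy
    exact hfus _ _ (isConj_iff.2 ⟨c, by
      rw [Subgroup.coe_inv, Subgroup.coe_inv, ← hc, ← conj_inv]⟩)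
  have hΦint : ∀ x, IsIntegral ℤ (Φ x) := fun x => IsIntegral.sum _ fun θ _ => isIntegral_lin θ _
  set f := extendFused U Φ with hfdef
  have hf : IsClassFunction G f := isClassFunction_extendFused hΦ
  set ω := classOmega f (χ : G → ℂ) with hω
  have hωint : IsIntegral ℤ ω :=
    isIntegral_classOmega hf (isIntegral_extendFused hΦint) χ
  set P : U → ℂ := fun v => ∑ θ ∈ S, ((θ v : ℂˣ) : ℂ) * (N * (h.lcoef χ θ : ℂ)) with hPdef
  have hχint : ∀ g, IsIntegral ℤ ((χ : G → ℂ) g) :=
    Chars.isIntegral_apply (Chars.isCharacter_coe χ)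
  have key : ∀ v : U, Even' (ω * colFun t U (χ : G → ℂ) v - P v) := by
    intro v
    have e1 : ω * colFun t U (χ : G → ℂ) v = ∑ x, f x * (χ : G → ℂ) (x * (t * v)) :=
      (sum_mul_classFunction hf χ _).symm
    have e2 := even'_sum_moved (fun x => t * x * t⁻¹)
      (fun x => by rw [h.t_inv, show t * (t * x * t) * t = (t * t) * x * (t * t) by group, h.tt,
        one_mul, mul_one])
      (fun x => f x * (χ : G → ℂ) (x * (t * v))) (fun x => by
        rw [hf x t, show t * x * t⁻¹ * (t * (v : G)) = t * (x * (t * v)) * t⁻¹ by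
          rw [mul_assoc (t * x), inv_mul_cancel_left, mul_assoc t (x * (t * v)),
            mul_assoc x (t * (v : G)), mul_assoc t (v : G), (h.comm _ v.2).symm.inv_right.eq,
            mul_inv_cancel_left, ← mul_assoc],
          Chars.isClassFunction_coe χ (x * (t * v)) t])
      (fun x => (isIntegral_extendFused hΦint x).mul (hχint _))
    have e3 : ∑ x ∈ Finset.univ.filter (fun x => t * x * t⁻¹ = x),
        f x * (χ : G → ℂ) (x * (t * v)) = P v := by
      have hsub : (Finset.univ : Finset U).map (Function.Embedding.subtype _) ⊆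
          Finset.univ.filter (fun x : G => t * x * t⁻¹ = x) := fun x hx => by
        obtain ⟨y, -, rfl⟩ := Finset.mem_map.1 hx
        simp only [Finset.mem_filter, Finset.mem_univ, true_and]
        exact mul_inv_eq_iff_eq_mul.2 (h.comm _ y.2).eq
      rw [← Finset.sum_subset hsub fun x hx hx' => ?_, Finset.sum_map]
      · calc ∑ x : U, f (x : G) * (χ : G → ℂ) ((x : G) * (t * v))
            = ∑ y : U, Φ (y * v⁻¹) * colFun t U (χ : G → ℂ) y := by
              refine Fintype.sum_equiv (Equiv.mulRight v) _ _ fun x => ?_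
              rw [hfdef, extendFused_coe hΦ, Equiv.coe_mulRight, mul_inv_cancel_right, colFun,
                Subgroup.coe_mul, ← mul_assoc, ← (h.comm _ x.2).eq, mul_assoc]
          _ = P v := by
              simp only [hΦdef, hPdef, Finset.sum_mul]
              rw [Finset.sum_comm]
              refine Finset.sum_congr rfl fun θ _ => ?_
              rw [← h.sum_col_lin χ θ, Finset.mul_sum]
              refine Finset.sum_congr rfl fun y _ => ?_
              rw [mul_inv_rev, inv_inv, map_mul, Units.val_mul]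
              ring
      · have hx1 : Commute x t := (mul_inv_eq_iff_eq_mul.1 (Finset.mem_filter.1 hx).2).symm
        rw [hfdef, extendFused, dif_neg, zero_mul]
        rintro ⟨y, hy⟩
        refine hx' (Finset.mem_map.2 ⟨⟨x, h.mem_of_odd hx1 ?_⟩, Finset.mem_univ _, rfl⟩)
        obtain ⟨c, hc⟩ := isConj_iff.1 hy
        have := h.odd_orderOf y
        rwa [← hc, ← MulAut.conj_apply, MulEquiv.orderOf_eq] at this
    rw [e1, ← e3]
    exact e2
  have hNint : IsIntegral ℤ N := isIntegral_natCast _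
  have hNodd : Odd (Nat.card U : ℤ) := by exact_mod_cast h.odd
  have hPsum : ∀ φ : IrrCharacter U, ∑ v : U, P v * conj ((φ : U → ℂ) v) =
      N * ∑ θ ∈ S, (h.lcoef χ θ : ℂ) * (N * classInner (Chars.linChar θ : U → ℂ) φ) := by
    intro φ
    simp only [hPdef, Finset.sum_mul, classInner, Finset.mul_sum]
    rw [Finset.sum_comm]
    refine Finset.sum_congr rfl fun θ _ => Finset.sum_congr rfl fun w _ => ?_
    rw [Chars.linChar_apply, ← hN]
    have : N ≠ 0 := Chars.natCard_ne_zero
    field_simp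
  have hcolint : ∀ v, IsIntegral ℤ (colFun t U (χ : G → ℂ) v) := fun v => hχint _
  have keysum : ∀ φ : IrrCharacter U, Even' ((ω * (h.coef χ φ : ℂ)) * N -
      N * ∑ θ ∈ S, (h.lcoef χ θ : ℂ) * (N * classInner (Chars.linChar θ : U → ℂ) φ)) := by
    intro φ
    rw [← hPsum φ, ← h.coef_spec χ φ, dcol, classInner, ← hN,
      show ∀ A : ℂ, ω * (N⁻¹ * A) * N = ω * A from fun A => by
        have : N ≠ 0 := Chars.natCard_ne_zero
        field_simp,
      Finset.mul_sum, ← Finset.sum_sub_distrib]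
    refine Even'.sum _ _ fun w _ => ?_
    rw [← mul_assoc, ← sub_mul, mul_comm _ (conj _)]
    refine Even'.mul_left ?_ (key w)
    rw [Chars.conj_eq_map_inv (Chars.isCharacter_coe φ)]
    exact Chars.isIntegral_apply (Chars.isCharacter_coe φ) _
  have hω1 : Even' (ω - N) := by
    have h1 := keysum (Chars.linChar θ₀)
    rw [Finset.sum_eq_single_of_mem θ₀ h₀ fun θ _ hθ => by
        rw [Chars.classInner_of_ne (fun e => hθ (Chars.linChar_injective e)), mul_zero, mul_zero],
      Chars.classInner_self, mul_one] at h1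
    have hd : Odd ((Nat.card U : ℤ) * h.lcoef χ θ₀) := by
      refine hNodd.mul ?_
      rcases h.coef_sq_le_one χ (Chars.linChar θ₀) with e | e
      · exact absurd e hne
      · exact (Int.odd_mul.1 (show Odd (h.lcoef χ θ₀ * h.lcoef χ θ₀) by
          rw [lcoef, e]; exact odd_one)).1
    refine Even'.of_odd hd (IsIntegral.sub hωint hNint) ?_
    push_cast
    rw [show (ω - N) * (((Nat.card U : ℕ) : ℂ) * (h.lcoef χ θ₀ : ℂ)) =
      ω * (h.lcoef χ θ₀ : ℂ) * N - N * ((h.lcoef χ θ₀ : ℂ) * N) by rw [hN]; ring]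
    exact h1
  have hzero : ∀ φ : IrrCharacter U, (∀ θ ∈ S, Chars.linChar θ ≠ φ) → h.coef χ φ = 0 := by
    intro φ hφ
    rcases h.coef_sq_le_one χ φ with e | e
    · exact e
    exfalso
    have h1 := keysum φ
    rw [Finset.sum_eq_zero fun θ hθ => by
      rw [Chars.classInner_of_ne (hφ θ hθ), mul_zero, mul_zero], mul_zero, sub_zero] at h1
    have h2 : Even' (((Nat.card U : ℤ) * (Nat.card U : ℤ) * h.coef χ φ : ℤ) : ℂ) := by
      have := h1.sub (Even'.mul_left (hNint.mul (isIntegral_intCast (h.coef χ φ))) hω1)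
      push_cast
      rw [← hN, show N * N * (h.coef χ φ : ℂ) =
        ω * (h.coef χ φ : ℂ) * N - N * (h.coef χ φ : ℂ) * (ω - N) by ring]
      exact this
    have hodd : Odd ((Nat.card U : ℤ) * (Nat.card U : ℤ) * h.coef χ φ) :=
      (hNodd.mul hNodd).mul (Int.odd_mul.1 (by rw [e]; exact odd_one)).1
    exact (Int.not_even_iff_odd.2 hodd) (even_iff_two_dvd.2 (dvd_of_even' h2))
  show colFun t U (χ : G → ℂ) v = _
  rw [Chars.eq_sum_classInner_mul (h.isClassFunction_colFun χ) v]
  simp only [show ∀ φ : IrrCharacter U, classInner (colFun t U (χ : G → ℂ)) (φ : U → ℂ) =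
    (h.coef χ φ : ℂ) from fun φ => h.coef_spec χ φ]
  rw [← Finset.sum_subset (Finset.subset_univ (S.image Chars.linChar)) fun φ _ hφ => by
      rw [hzero φ fun θ hθ e => hφ (Finset.mem_image.2 ⟨θ, hθ, e⟩), Int.cast_zero, zero_mul],
    Finset.sum_image fun a _ b _ e => Chars.linChar_injective e]
  rfl

/-- A linear character fixed by the centraliser of `t`. -/
def Invariant (h : Setup t U) (θ : U →* ℂˣ) : Prop :=
  ∀ (c : G) (hc : Commute c t) (v : U), θ ⟨c * v * c⁻¹, h.norm c hc v v.2⟩ = θ v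

theorem twist_linChar (h : Setup t U) {θ : U →* ℂˣ} (hθ : h.Invariant θ)
    (c : Subgroup.centralizer ({t} : Set G)) :
    h.twist c (Chars.linChar θ) = Chars.linChar θ := by
  refine Subtype.ext (funext fun v => ?_)
  rw [twist_apply, Chars.linChar_apply, Chars.linChar_apply]
  exact congrArg (fun z : ℂˣ => (z : ℂ))
    (hθ c (Subgroup.mem_centralizer_singleton_iff.1 c.2) v)

omit [Fintype G] [Fintype U] in
theorem invariant_one (h : Setup t U) : h.Invariant 1 := fun _ _ _ => rfl

open scoped Classical in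
theorem sum_lcoef_mul (h : Setup t U) {θ φ : U →* ℂˣ} (hφ : h.Invariant φ) :
    ∑ χ : IrrCharacter G, h.lcoef χ θ * h.lcoef χ φ = if θ = φ then 4 else 0 := by
  have hU : (0 : ℤ) < Nat.card U := by exact_mod_cast Nat.card_pos
  refine mul_left_cancel₀ hU.ne' ?_
  simp only [lcoef]
  rw [h.card_mul_sum_coef, Finset.filter_congr (q := fun _ => θ = φ) fun c _ => by
    rw [h.twist_linChar hφ c, Chars.linChar_injective.eq_iff, eq_comm]]
  by_cases e : θ = φ
  · rw [if_pos e, Finset.filter_true_of_mem fun _ _ => e, Finset.card_univ,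
      ← Nat.card_eq_fintype_card, h.card]
    push_cast; ring
  · rw [if_neg e, Finset.filter_false_of_mem fun _ _ => e]
    simp

/-- The characters with a coefficient on `θ`. -/
noncomputable def support (h : Setup t U) (θ : U →* ℂˣ) : Finset (IrrCharacter G) :=
  Finset.univ.filter fun χ => h.lcoef χ θ ≠ 0

theorem mem_support (h : Setup t U) {θ : U →* ℂˣ} {χ : IrrCharacter G} :
    χ ∈ h.support θ ↔ h.lcoef χ θ ≠ 0 := by
  simp [support]

theorem lcoef_sq (h : Setup t U) {θ : U →* ℂˣ} {χ : IrrCharacter G} (hχ : χ ∈ h.support θ) :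
    h.lcoef χ θ = 1 ∨ h.lcoef χ θ = -1 :=
  Int.mul_eq_one_iff_eq_one_or_neg_one.mp
    ((h.coef_sq_le_one χ _).resolve_left (h.mem_support.1 hχ)) |>.imp (·.1) (·.1)

theorem card_support (h : Setup t U) {θ : U →* ℂˣ} (hθ : h.Invariant θ) :
    (h.support θ).card = 4 := by
  classical
  have h4 := h.sum_lcoef_mul (θ := θ) hθ
  rw [if_pos rfl, ← Finset.sum_subset (Finset.subset_univ (h.support θ)) fun χ _ hχ => by
      rw [not_not.1 (h.mem_support.not.1 hχ), zero_mul],
    Finset.sum_congr rfl (g := fun _ => (1 : ℤ)) fun χ hχ => show h.lcoef χ θ * h.lcoef χ θ = 1 from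
      (h.coef_sq_le_one χ _).resolve_left (h.mem_support.1 hχ),
    Finset.sum_const, nsmul_eq_mul, mul_one] at h4
  exact_mod_cast h4

theorem sum_support_degree (h : Setup t U) (θ : U →* ℂˣ) :
    ∑ χ ∈ h.support θ, (charDegree (χ : G → ℂ) : ℤ) * h.lcoef χ θ = 0 := by
  have h0 := h.sum_degree_coef (Chars.linChar θ)
  rwa [← Finset.sum_subset (Finset.subset_univ (h.support θ)) fun χ _ hχ => by
    show _ * h.lcoef χ θ = 0
    rw [not_not.1 (h.mem_support.not.1 hχ), mul_zero]] at h0

/-- The weighted column sum. -/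
noncomputable def weight (h : Setup t U) (θ : U →* ℂˣ) : ℂ :=
  ∑ χ ∈ h.support θ, (χ : G → ℂ) t ^ 2 * (h.lcoef χ θ : ℂ) / (χ : G → ℂ) 1

/-- An invariant linear character has the weight of the trivial one. -/
theorem weight_eq_weight_one (h : Setup t U) {θ : U →* ℂˣ} (hθ : h.Invariant θ) :
    h.weight θ = h.weight 1 := by
  classical
  set F : U → ℂ := fun v => ∑ χ : IrrCharacter G,
    (χ : G → ℂ) t ^ 2 * colFun t U (χ : G → ℂ) v / (χ : G → ℂ) 1 with hF
  have hw : ∀ φ : U →* ℂˣ, (Nat.card U : ℂ) * h.weight φ = ∑ v : U, F v * ((φ v⁻¹ : ℂˣ) : ℂ) := by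
    intro φ
    rw [weight, Finset.sum_subset (Finset.subset_univ _) fun χ _ hχ => by
      rw [not_not.1 (h.mem_support.not.1 hχ), Int.cast_zero, mul_zero, zero_div]]
    simp only [hF, Finset.sum_mul]
    rw [Finset.sum_comm, Finset.mul_sum]
    refine Finset.sum_congr rfl fun χ _ => ?_
    rw [show (Nat.card U : ℂ) * ((χ : G → ℂ) t ^ 2 * (h.lcoef χ φ : ℂ) / (χ : G → ℂ) 1) =
      (χ : G → ℂ) t ^ 2 / (χ : G → ℂ) 1 * ((Nat.card U : ℂ) * (h.lcoef χ φ : ℂ)) by ring,
      ← h.sum_col_lin χ φ, Finset.mul_sum]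
    exact Finset.sum_congr rfl fun v _ => by ring
  have hF0 : ∀ v : U, F v ≠ 0 → θ v = 1 := by
    intro v hv
    have e : (Nat.card G : ℂ) * F v = ∑ a : G, ∑ χ : IrrCharacter G,
        (χ : G → ℂ) (t * (a * t * a⁻¹)) * (χ : G → ℂ) (t * v) := by
      rw [Finset.sum_comm, hF, Finset.mul_sum]
      refine Finset.sum_congr rfl fun χ _ => ?_
      rw [← Finset.sum_mul, Chars.sum_map_mul_conjugate, colFun]
      ring
    have hne : ∑ a : G, ∑ χ : IrrCharacter G,
        (χ : G → ℂ) (t * (a * t * a⁻¹)) * (χ : G → ℂ) (t * v) ≠ 0 := by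
      rw [← e]; exact mul_ne_zero Chars.natCard_ne_zero hv
    obtain ⟨a, -, ha⟩ := Finset.exists_ne_zero_of_sum_ne_zero hne
    have hcol := Chars.sum_irr_mul_map_inv (t * (a * t * a⁻¹)) (t * (v : G))⁻¹
    rw [inv_inv] at hcol
    rw [hcol] at ha
    obtain ⟨c, hc⟩ := isConj_iff.1 (of_not_not fun hn => ha (if_neg hn))
    set q := c * t * c⁻¹
    set r := (c * a) * t * (c * a)⁻¹
    have hqq : q * q = 1 := by
      rw [show q * q = c * (t * t) * c⁻¹ by simp only [q]; group, h.tt, mul_one, mul_inv_cancel]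
    have hrr : r * r = 1 := by
      rw [show r * r = (c * a) * (t * t) * (c * a)⁻¹ by simp only [r]; group, h.tt, mul_one, mul_inv_cancel]
    have hqr : q * r = (t * (v : G))⁻¹ := by
      rw [← hc]; simp only [q, r]; group
    have hrq : r * q = t * (v : G) := by
      rw [← inv_inv (t * (v : G)), ← hqr, mul_inv_rev, inv_eq_of_mul_eq_one_right hrr,
        inv_eq_of_mul_eq_one_right hqq]
    have hv' : q * (t * v) * q⁻¹ = t * ((v⁻¹ : U) : G) := by
      rw [← hrq, inv_eq_of_mul_eq_one_right hqq,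
        show q * (r * q) * q = q * r * (q * q) by group, hqq, mul_one, hqr, mul_inv_rev, h.t_inv,
        Subgroup.coe_inv]
      exact (h.comm _ (inv_mem v.2)).symm.eq
    obtain ⟨hqt, hqv⟩ := h.commute_of_conj v.2 (v⁻¹).2 hv'
    have h1 := hθ q hqt v
    rw [show (⟨q * v * q⁻¹, h.norm q hqt v v.2⟩ : U) = v⁻¹ from Subtype.ext hqv, map_inv] at h1
    have h2 : θ v ^ 2 = 1 := by rw [pow_two]; nth_rw 1 [← h1]; exact inv_mul_cancel _
    have h3 : θ v ^ Nat.card U = 1 := by rw [← map_pow, pow_card_eq_one', map_one]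
    obtain ⟨k, hk⟩ := h.odd
    rw [hk, pow_succ, pow_mul, h2, one_pow, one_mul] at h3
    exact h3
  refine mul_left_cancel₀ (Chars.natCard_ne_zero (G := U)) ?_
  rw [hw, hw]
  refine Finset.sum_congr rfl fun v _ => ?_
  by_cases hv : F v = 0
  · rw [hv, zero_mul, zero_mul]
  · rw [map_inv, hF0 v hv, inv_one, MonoidHom.one_apply]

end Setup

end CfsgLib.FourCore42
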