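import Cfsg.Agent.FourCore42.Basic

/-!
# The column coefficients at an involution

`U` is an odd normal subgroup of index four in the centraliser of the involution `t`.  The
coefficients of `v ↦ χ (t * v)` on the irreducible characters of `U` are `0` or `±1`.
-/

set_option autoImplicit false
set_option linter.style.haveILetI false

namespace CfsgLib.FourCore42

open Cfsg
open scoped ComplexConjugate

universe u

variable {G : Type u} [Group G] [Fintype G]

/-- An involution with an odd normal subgroup of index four in its centraliser. -/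
structure Setup (t : G) (U : Subgroup G) : Prop where
  ht : orderOf t = 2
  comm : ∀ u ∈ U, Commute t u
  odd : Odd (Nat.card U)
  norm : ∀ c, Commute c t → ∀ u ∈ U, c * u * c⁻¹ ∈ U
  card : Nat.card (Subgroup.centralizer ({t} : Set G)) = 4 * Nat.card U

/-- The function `v ↦ χ (t * v)` on `U`. -/
def colFun (t : G) (U : Subgroup G) (χ : G → ℂ) : U → ℂ := fun v => χ (t * (v : G))

/-- The coefficient of `ψ` in `v ↦ χ (t * v)`. -/
noncomputable def dcol (t : G) (U : Subgroup G) [Fintype U] (χ : G → ℂ) (ψ : U → ℂ) : ℂ :=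
  classInner (colFun t U χ) ψ

namespace Setup

variable {t : G} {U : Subgroup G} [Fintype U]

omit [Fintype G] [Fintype U] in
theorem tt (h : Setup t U) : t * t = 1 := by
  rw [← pow_two, ← h.ht, pow_orderOf_eq_one]

omit [Fintype G] [Fintype U] in
theorem t_inv (h : Setup t U) : t⁻¹ = t := inv_eq_of_mul_eq_one_right h.tt

omit [Fintype G] [Fintype U] in
theorem pow_card_eq_one (x : U) : ((x : G)) ^ Nat.card U = 1 := by
  rw [← SubmonoidClass.coe_pow, pow_card_eq_one', OneMemClass.coe_one]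

omit [Fintype G] [Fintype U] in
theorem pow_mul_t (h : Setup t U) {v : G} (hv : v ∈ U) : (t * v) ^ Nat.card U = t := by
  obtain ⟨k, hk⟩ := h.odd
  rw [(h.comm v hv).mul_pow, pow_card_eq_one ⟨v, hv⟩, mul_one, hk, pow_succ, pow_mul, pow_two,
    h.tt, one_pow, one_mul]

omit [Fintype G] [Fintype U] in
theorem commute_of_conj (h : Setup t U) {g v v' : G} (hv : v ∈ U) (hv' : v' ∈ U)
    (e : g * (t * v) * g⁻¹ = t * v') : Commute g t ∧ g * v * g⁻¹ = v' := by
  have h1 : g * t * g⁻¹ = t := by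
    conv_lhs => rw [← h.pow_mul_t hv]
    rw [← conj_pow, e, h.pow_mul_t hv']
  refine ⟨mul_inv_eq_iff_eq_mul.1 h1, ?_⟩
  rw [show g * (t * v) * g⁻¹ = (g * t * g⁻¹) * (g * v * g⁻¹) by group, h1] at e
  exact mul_left_cancel e

omit [Fintype U] in
theorem mul_ne_one (h : Setup t U) (v : U) : t * (v : G) ≠ 1 := fun e => by
  have := h.pow_mul_t v.2
  rw [e, one_pow] at this
  exact orderOf_eq_one_iff.not.1 (by rw [h.ht]; norm_num) this.symm

omit [Fintype U] in
theorem mem_of_odd (h : Setup t U) {c : G} (hc : Commute c t) (ho : Odd (orderOf c)) : c ∈ U := by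
  set C := Subgroup.centralizer ({t} : Set G)
  have hle : U ≤ C := fun u hu => Subgroup.mem_centralizer_singleton_iff.2 (h.comm u hu).eq.symm
  haveI : (U.subgroupOf C).Normal := ⟨fun u hu g => by
    rw [Subgroup.mem_subgroupOf] at hu ⊢
    exact h.norm _ (Subgroup.mem_centralizer_singleton_iff.1 g.2) _ hu⟩
  have hidx : (U.subgroupOf C).index = 4 := by
    have h1 := (U.subgroupOf C).index_mul_card
    rw [Nat.card_congr (Subgroup.subgroupOfEquivOfLe hle).toEquiv, h.card] at h1
    exact Nat.eq_of_mul_eq_mul_right Nat.card_pos h1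
  have h4 : c ^ 4 ∈ U := by
    have := Subgroup.pow_index_mem (U.subgroupOf C)
      (⟨c, Subgroup.mem_centralizer_singleton_iff.2 hc.eq⟩ : C)
    rw [hidx, Subgroup.mem_subgroupOf] at this
    exact this
  have hcop : (4 : ℕ).Coprime (orderOf c) := by
    rw [show (4 : ℕ) = 2 ^ 2 by norm_num]
    exact (Nat.coprime_primes Nat.prime_two Nat.prime_two |> fun _ =>
      (Nat.prime_two.coprime_iff_not_dvd.2 ho.not_two_dvd_nat).pow_left 2)
  obtain ⟨m, hm⟩ := exists_pow_eq_self_of_coprime hcop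
  rw [← hm]
  exact pow_mem h4 m

theorem exists_int_dcol (h : Setup t U) (χ : IrrCharacter G) (ψ : IrrCharacter U) :
    ∃ d : ℤ, dcol t U (χ : G → ℂ) (ψ : U → ℂ) = d := by
  obtain ⟨n, m, -, e⟩ := exists_nat_coset U h.ht (fun u hu => (h.comm u hu).symm)
    (Chars.isCharacter_coe χ) (Chars.isCharacter_coe ψ)
  exact ⟨2 * (n : ℤ) - m, e.trans (by push_cast; ring)⟩

/-- Conjugation by an element of the centraliser as an automorphism of `U`. -/
def conjU (h : Setup t U) (c : Subgroup.centralizer ({t} : Set G)) : U ≃* U where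
  toFun v := ⟨(c : G) * v * (c : G)⁻¹,
    h.norm _ (Subgroup.mem_centralizer_singleton_iff.1 c.2) _ v.2⟩
  invFun v := ⟨(c : G)⁻¹ * v * c, by
    have := h.norm (c : G)⁻¹ (show Commute (c : G) t from
      Subgroup.mem_centralizer_singleton_iff.1 c.2).inv_left _ v.2
    rwa [inv_inv] at this⟩
  left_inv v := Subtype.ext (by simp [mul_assoc])
  right_inv v := Subtype.ext (by simp [mul_assoc])
  map_mul' v w := Subtype.ext (by simp [mul_assoc])

/-- The twist of an irreducible character of `U`. -/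
def twist (h : Setup t U) (c : Subgroup.centralizer ({t} : Set G)) (ψ : IrrCharacter U) :
    IrrCharacter U :=
  ⟨_, Chars.isIrrCharacter_comp_mulEquiv ψ.2 (h.conjU c)⟩

theorem twist_apply (h : Setup t U) (c : Subgroup.centralizer ({t} : Set G)) (ψ : IrrCharacter U)
    (v : U) : (h.twist c ψ : U → ℂ) v = (ψ : U → ℂ) (h.conjU c v) := rfl

open scoped Classical in
theorem sum_col_mul_conj (h : Setup t U) (v v' : U) :
    ∑ χ : IrrCharacter G, colFun t U (χ : G → ℂ) v * conj (colFun t U (χ : G → ℂ) v') =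
      ∑ c : Subgroup.centralizer ({t} : Set G), if h.conjU c v = v' then (1 : ℂ) else 0 := by
  simp only [colFun]
  rw [Chars.sum_irr_mul_conj, Finset.sum_boole]
  by_cases hc : IsConj (t * (v : G)) (t * v')
  · rw [if_pos hc, Nat.cast_inj]
    obtain ⟨g, hg⟩ := isConj_iff.1 hc
    obtain ⟨hgt, hgv⟩ := h.commute_of_conj v.2 v'.2 hg
    rw [← Nat.card_eq_finsetCard]
    refine Nat.card_congr
      { toFun := fun k => ⟨⟨g * k.1, ?_⟩, ?_⟩
        invFun := fun c => ⟨g⁻¹ * (c.1 : G), ?_⟩
        left_inv := fun k => Subtype.ext (by simp)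
        right_inv := fun c => Subtype.ext (Subtype.ext (by simp)) }
    · have hk := Subgroup.mem_centralizer_singleton_iff.1 k.2
      obtain ⟨hkt, -⟩ := h.commute_of_conj v.2 v.2 (mul_inv_eq_iff_eq_mul.2 hk)
      exact Subgroup.mem_centralizer_singleton_iff.2 (hgt.mul_left hkt).eq
    · have hk := Subgroup.mem_centralizer_singleton_iff.1 k.2
      obtain ⟨-, hkv⟩ := h.commute_of_conj v.2 v.2 (mul_inv_eq_iff_eq_mul.2 hk)
      simp only [Finset.mem_filter, Finset.mem_univ, true_and]
      refine Subtype.ext ?_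
      show g * k.1 * (v : G) * (g * k.1)⁻¹ = v'
      rw [show g * k.1 * (v : G) * (g * k.1)⁻¹ = g * (k.1 * v * (k.1)⁻¹) * g⁻¹ by group, hkv, hgv]
    · have hcv := congrArg Subtype.val (Finset.mem_filter.1 c.2).2
      have hct : Commute (c.1 : G) t := Subgroup.mem_centralizer_singleton_iff.1 c.1.2
      have hkt : Commute (g⁻¹ * (c.1 : G)) t := hgt.inv_left.mul_left hct
      rw [Subgroup.mem_centralizer_singleton_iff, ← mul_inv_eq_iff_eq_mul,
        show g⁻¹ * (c.1 : G) * (t * v) * (g⁻¹ * (c.1 : G))⁻¹ =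
          (g⁻¹ * (c.1 : G) * t * (g⁻¹ * (c.1 : G))⁻¹) * (g⁻¹ * ((c.1 : G) * v * (c.1 : G)⁻¹) * g)
          by group, mul_inv_eq_iff_eq_mul.2 hkt.eq]
      rw [show (c.1 : G) * v * (c.1 : G)⁻¹ = v' from hcv, ← hgv]
      group
  · rw [if_neg hc]
    refine (Nat.cast_eq_zero.2 (Finset.card_eq_zero.2 ?_)).symm
    refine Finset.filter_eq_empty_iff.2 fun c _ hcv => hc (isConj_iff.2 ⟨c, ?_⟩)
    have hct : Commute (c : G) t := Subgroup.mem_centralizer_singleton_iff.1 c.2
    rw [show (c : G) * (t * v) * (c : G)⁻¹ = ((c : G) * t * (c : G)⁻¹) * ((c : G) * v * (c : G)⁻¹)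
      by group, mul_inv_eq_iff_eq_mul.2 hct.eq, ← congrArg Subtype.val hcv]
    rfl

open scoped Classical in
theorem sum_dcol_mul (h : Setup t U) (ψ φ : IrrCharacter U) :
    (Nat.card U : ℂ) * ∑ χ : IrrCharacter G,
        dcol t U (χ : G → ℂ) ψ * conj (dcol t U (χ : G → ℂ) φ) =
      ((Finset.univ.filter fun c : Subgroup.centralizer ({t} : Set G) =>
        h.twist c φ = ψ).card : ℂ) := by
  have hN : (Nat.card U : ℂ) ≠ 0 := Chars.natCard_ne_zero
  have hterm : ∀ c : Subgroup.centralizer ({t} : Set G),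
      (Nat.card U : ℂ)⁻¹ * ∑ v : U, (h.twist c φ : U → ℂ) v * conj ((ψ : U → ℂ) v) =
        if h.twist c φ = ψ then 1 else 0 := fun c => Chars.classInner_irr _ _
  calc (Nat.card U : ℂ) * ∑ χ : IrrCharacter G,
        dcol t U (χ : G → ℂ) ψ * conj (dcol t U (χ : G → ℂ) φ)
      = (Nat.card U : ℂ)⁻¹ * ∑ χ : IrrCharacter G, ∑ v : U, ∑ v' : U,
          conj ((ψ : U → ℂ) v) * (φ : U → ℂ) v' *
            (colFun t U (χ : G → ℂ) v * conj (colFun t U (χ : G → ℂ) v')) := by
        rw [Finset.mul_sum, Finset.mul_sum]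
        refine Finset.sum_congr rfl fun χ _ => ?_
        simp only [dcol, classInner, map_mul, map_inv₀, map_natCast, map_sum, Complex.conj_conj]
        rw [show ∀ A B : ℂ, (Nat.card U : ℂ) * ((Nat.card U : ℂ)⁻¹ * A * ((Nat.card U : ℂ)⁻¹ * B)) =
            (Nat.card U : ℂ)⁻¹ * (A * B) from fun A B => by field_simp]
        congr 1
        rw [Finset.sum_mul_sum]
        exact Finset.sum_congr rfl fun v _ => Finset.sum_congr rfl fun v' _ => by ring
    _ = (Nat.card U : ℂ)⁻¹ * ∑ c : Subgroup.centralizer ({t} : Set G), ∑ v : U,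
          (h.twist c φ : U → ℂ) v * conj ((ψ : U → ℂ) v) := by
        rw [Finset.sum_comm]
        congr 1
        conv_lhs => arg 2; ext v; rw [Finset.sum_comm]; arg 2; ext v'; rw [← Finset.mul_sum,
          h.sum_col_mul_conj, Finset.mul_sum]
        conv_lhs => arg 2; ext v; rw [Finset.sum_comm]
        rw [Finset.sum_comm]
        refine Finset.sum_congr rfl fun c _ => Finset.sum_congr rfl fun v _ => ?_
        simp only [mul_ite, mul_one, mul_zero, Finset.sum_ite_eq, Finset.mem_univ, if_true,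
          twist_apply]
        ring
    _ = _ := by
        rw [Finset.mul_sum, Finset.sum_congr rfl fun c _ => hterm c, Finset.sum_boole]

theorem sum_degree_dcol (h : Setup t U) (ψ : U → ℂ) :
    ∑ χ : IrrCharacter G, (χ : G → ℂ) 1 * dcol t U (χ : G → ℂ) ψ = 0 := by
  classical
  have hz : ∀ v : U, ∑ χ : IrrCharacter G, (χ : G → ℂ) 1 * colFun t U (χ : G → ℂ) v = 0 := fun v =>
    (Chars.sum_irr_map_one_mul (t * (v : G))).trans (if_neg (h.mul_ne_one v))
  calc ∑ χ : IrrCharacter G, (χ : G → ℂ) 1 * dcol t U (χ : G → ℂ) ψ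
      = (Nat.card U : ℂ)⁻¹ * ∑ v : U,
          (∑ χ : IrrCharacter G, (χ : G → ℂ) 1 * colFun t U (χ : G → ℂ) v) * conj (ψ v) := by
        simp only [dcol, classInner, Finset.sum_mul, Finset.mul_sum]
        rw [Finset.sum_comm]
        exact Finset.sum_congr rfl fun v _ => Finset.sum_congr rfl fun χ _ => by ring
    _ = 0 := by simp [hz]

/-- The coefficients as integers. -/
noncomputable def coef (h : Setup t U) (χ : IrrCharacter G) (ψ : IrrCharacter U) : ℤ :=
  (h.exists_int_dcol χ ψ).choose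

theorem coef_spec (h : Setup t U) (χ : IrrCharacter G) (ψ : IrrCharacter U) :
    dcol t U (χ : G → ℂ) (ψ : U → ℂ) = (h.coef χ ψ : ℂ) := (h.exists_int_dcol χ ψ).choose_spec

open scoped Classical in
theorem card_mul_sum_coef (h : Setup t U) (ψ φ : IrrCharacter U) :
    (Nat.card U : ℤ) * ∑ χ : IrrCharacter G, h.coef χ ψ * h.coef χ φ =
      ((Finset.univ.filter fun c : Subgroup.centralizer ({t} : Set G) =>
        h.twist c φ = ψ).card : ℤ) := by
  apply Int.cast_injective (α := ℂ)
  rw [Int.cast_natCast, ← h.sum_dcol_mul ψ φ]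
  push_cast
  simp [h.coef_spec]

theorem sum_coef_sq_le (h : Setup t U) (ψ : IrrCharacter U) :
    ∑ χ : IrrCharacter G, h.coef χ ψ * h.coef χ ψ ≤ 4 := by
  classical
  refine le_of_mul_le_mul_left ?_ (show (0 : ℤ) < Nat.card U by exact_mod_cast Nat.card_pos)
  rw [h.card_mul_sum_coef ψ ψ]
  calc ((Finset.univ.filter fun c : Subgroup.centralizer ({t} : Set G) =>
        h.twist c ψ = ψ).card : ℤ) ≤ (Nat.card (Subgroup.centralizer ({t} : Set G)) : ℤ) := by
        rw [Nat.card_eq_fintype_card]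
        exact_mod_cast Finset.card_filter_le _ _
    _ = (Nat.card U : ℤ) * 4 := by rw [h.card]; push_cast; ring

theorem sum_degree_coef (h : Setup t U) (ψ : IrrCharacter U) :
    ∑ χ : IrrCharacter G, (charDegree (χ : G → ℂ) : ℤ) * h.coef χ ψ = 0 := by
  apply Int.cast_injective (α := ℂ)
  push_cast
  rw [← h.sum_degree_dcol (ψ : U → ℂ)]
  simp [h.coef_spec, Chars.coe_charDegree]

theorem coef_sq_le_one (h : Setup t U) (χ : IrrCharacter G) (ψ : IrrCharacter U) :
    h.coef χ ψ = 0 ∨ h.coef χ ψ * h.coef χ ψ = 1 := by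
  classical
  have hle := h.sum_coef_sq_le ψ
  rw [← Finset.add_sum_erase _ _ (Finset.mem_univ χ)] at hle
  have hnn : ∀ φ : IrrCharacter G, φ ∈ (Finset.univ.erase χ) → 0 ≤ h.coef φ ψ * h.coef φ ψ :=
    fun φ _ => mul_self_nonneg _
  have hrest := Finset.sum_nonneg hnn
  set d := h.coef χ ψ with hd
  by_cases h2 : d = 2 ∨ d = -2
  · exfalso
    have h4 : d * d = 4 := by rcases h2 with e | e <;> rw [e] <;> norm_num
    have hz : ∀ φ ∈ Finset.univ.erase χ, h.coef φ ψ = 0 := fun φ hφ => mul_self_eq_zero.1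
      ((Finset.sum_eq_zero_iff_of_nonneg hnn).1 (by omega) φ hφ)
    have h0 := h.sum_degree_coef ψ
    rw [← Finset.add_sum_erase _ _ (Finset.mem_univ χ), Finset.sum_eq_zero fun φ hφ => by
      rw [hz φ hφ, mul_zero], add_zero, ← hd] at h0
    have := Chars.charDegree_pos χ
    rcases h2 with e | e <;> rw [e] at h0 <;> omega
  · have hlo : -2 ≤ d := by nlinarith
    have hhi : d ≤ 2 := by nlinarith
    rw [not_or] at h2
    rcases (show d = -1 ∨ d = 0 ∨ d = 1 by omega) with e | e | e <;> rw [e] <;> norm_num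

end Setup

end CfsgLib.FourCore42
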